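import Mathlib
import Cfsg.Agent.Lib.Core.MinNormal
import Cfsg.Agent.Lib.Core.Coprime
import Cfsg.Agent.Lib.Core.HHCritical.Main

/-!
# Fixed points of a generating element of prime order in transitive solvable actions

* `three_mul_fixed_le`: an element of odd prime order whose conjugates generate a solvable group
  fixes at most a third of the cosets of a proper subgroup
* `orbit_reps_bound`: counting orbit representatives of a permutation of prime order
-/

set_option autoImplicit false
set_option linter.all false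

namespace CfsgLib.Core.FixedHalf

open Subgroup
open scoped commutatorElement

universe u

/-- An element of odd prime order normalising a subgroup of index two of an abelian group and
centralising it centralises everything: here for the centralizer of the element. -/
theorem index_two_false {G : Type*} [Group G] {A : Subgroup G} [A.Normal]
    (hAc : ∀ a ∈ A, ∀ b ∈ A, a * b = b * a) {y : G} {p : ℕ} (hp : Odd p) (hy : y ^ p = 1)
    (h2 : (A ⊓ centralizer ({y} : Set G)).relIndex A = 2) : False := by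
  set C := A ⊓ centralizer ({y} : Set G) with hC
  have hmem : ∀ {c : G}, c ∈ C → y * c = c * y := fun {c} hc =>
    (mem_centralizer_singleton_iff.1 hc.2).symm
  obtain ⟨a, ha⟩ : ∃ a : A, a ∉ C.subgroupOf A := by
    by_contra h
    push Not at h
    have : C.subgroupOf A = ⊤ := eq_top_iff.2 fun a _ => h a
    rw [subgroupOf_eq_top] at this
    rw [relIndex_eq_one.2 this] at h2
    omega
  have haC : (a : G) ∉ C := fun h => ha (mem_subgroupOf.2 h)
  have hb : y * a * y⁻¹ ∈ A := (inferInstance : A.Normal).conj_mem _ a.2 y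
  have hb' : (⟨_, hb⟩ : A) ∉ C.subgroupOf A := by
    intro h
    have h' := hmem (mem_subgroupOf.1 h)
    refine haC ⟨a.2, mem_centralizer_singleton_iff.2 ?_⟩
    simp only at h'
    have h2 : y * (a : G) * y⁻¹ = a := mul_left_cancel (a := y) (h'.trans (by group))
    exact (mul_inv_eq_iff_eq_mul.1 h2).symm
  have hc : (a : G)⁻¹ * (y * a * y⁻¹) ∈ C := by
    have h3 : (a⁻¹ : A) * ⟨_, hb⟩ ∈ C.subgroupOf A :=
      (mul_mem_iff_of_index_two h2).2 (iff_of_false (fun h => ha (inv_mem_iff.1 h)) hb')
    exact mem_subgroupOf.1 h3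
  set c := (a : G)⁻¹ * (y * a * y⁻¹) with hcdef
  have hpow : ∀ j : ℕ, y ^ j * a * (y ^ j)⁻¹ = a * c ^ j := by
    intro j
    induction j with
    | zero => simp
    | succ j ih =>
      have h1 : y * c ^ j = c ^ j * y := (show Commute y c from hmem hc).pow_right j
      calc y ^ (j + 1) * a * (y ^ (j + 1))⁻¹ = y * (y ^ j * a * (y ^ j)⁻¹) * y⁻¹ := by
            rw [pow_succ']; group
        _ = (y * a * y⁻¹) * (y * c ^ j * y⁻¹) := by rw [ih]; group
        _ = a * c * c ^ j := by rw [h1, mul_inv_cancel_right, hcdef, mul_inv_cancel_left]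
        _ = a * c ^ (j + 1) := by rw [mul_assoc, ← pow_succ']
  have hcp : c ^ p = 1 := by
    have := hpow p
    rw [hy, inv_one, one_mul, mul_one] at this
    exact mul_left_cancel (a := (a : G)) (by rw [mul_one]; exact this.symm)
  have hsq : (a : G) * a ∈ C := by
    have h3 : a * a ∈ C.subgroupOf A := mul_self_mem_of_index_two h2 a
    exact mem_subgroupOf.1 h3
  have hcA : c ∈ A := hc.1
  have hc2 : c ^ 2 = 1 := by
    have h1 := hmem hsq
    have h2 : y * a * y⁻¹ = a * c := by rw [hcdef, mul_inv_cancel_left]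
    have : (a : G) * a = (a * a) * c ^ 2 := by
      calc (a : G) * a = y * (a * a) * y⁻¹ := by rw [h1, mul_inv_cancel_right]
        _ = (y * a * y⁻¹) * (y * a * y⁻¹) := by group
        _ = a * (c * a) * c := by rw [h2]; group
        _ = a * (a * c) * c := by rw [hAc c hcA a a.2]
        _ = (a * a) * c ^ 2 := by rw [pow_two]; group
    exact mul_left_cancel (a := (a : G) * a) (by rw [mul_one]; exact this.symm)
  have hc1 : c = 1 := by
    obtain ⟨t, ht⟩ := hp
    rw [ht, pow_succ, pow_mul, hc2, one_pow, one_mul] at hcp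
    exact hcp
  refine haC ⟨a.2, mem_centralizer_singleton_iff.2 ?_⟩
  have h2 : y * a * y⁻¹ = a * c := by rw [hcdef, mul_inv_cancel_left]
  rw [hc1, mul_one] at h2
  exact (mul_inv_eq_iff_eq_mul.1 h2).symm

theorem fixed_le_of_core_bot {G : Type u} [Group G] [Finite G] [Group.IsSolvable G] {M : Subgroup G}
    (hM : IsCoatom M) (hcore : M.normalCore = ⊥) {p : ℕ} (hp : Odd p) {x : G} (hxp : x ^ p = 1)
    (hx1 : x ≠ 1) : 3 * Nat.card {c : G ⧸ M // x • c = c} ≤ M.index := by
  classical
  haveI : Nontrivial G := ⟨⟨x, 1, hx1⟩⟩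
  obtain ⟨A, hAn, hA0, -, hAmin⟩ := exists_minimal_normal_le' (⊤ : Subgroup G) top_ne_bot
  haveI := hAn
  have hAc : ∀ a ∈ A, ∀ b ∈ A, a * b = b * a := by
    have := commutative_of_minimal_normal A inferInstance hA0 hAmin
    intro a ha b hb
    exact commutatorElement_eq_one_iff_mul_comm.1 ((Subgroup.eq_bot_iff_forall _).1
      (isMulCommutative_iff_commutator_eq_bot.1 this) _ (commutator_mem_commutator ha hb))
  have hAM : ¬ A ≤ M := fun h => hA0 (eq_bot_iff.2 (hcore ▸ normal_le_normalCore.2 h))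
  have hsup : M ⊔ A = ⊤ := hM.2 _ (lt_of_le_of_ne le_sup_left fun h =>
    hAM (sup_eq_left.1 h.symm))
  have hdecomp : ∀ g : G, ∃ m ∈ M, ∃ a ∈ A, g = m * a := fun g =>
    (CfsgLib.Core.mem_sup_iff_mul (show M ≤ normalizer (A : Set G) by
      rw [normalizer_eq_top]; exact le_top)).1 (hsup.ge (mem_top g))
  have hinf : M ⊓ A = ⊥ := by
    have hn : (M ⊓ A).Normal := ⟨fun n hn g => by
      obtain ⟨m, hm, a, ha, rfl⟩ := hdecomp g
      have e : m * a * n * (m * a)⁻¹ = m * n * m⁻¹ := by
        rw [mul_assoc m a n, hAc a ha n hn.2]; group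
      rw [e]
      exact Subgroup.mem_inf.2 ⟨mul_mem (mul_mem hm hn.1) (M.inv_mem hm), hAn.conj_mem n hn.2 m⟩⟩
    exact eq_bot_iff.2 (hcore ▸ normal_le_normalCore.2 inf_le_left)
  have hbij : Function.Bijective fun a : A => ((a : G) : G ⧸ M) := by
    constructor
    · intro a b h
      have h1 : (a : G)⁻¹ * b ∈ M ⊓ A :=
        Subgroup.mem_inf.2 ⟨QuotientGroup.eq.1 h, mul_mem (A.inv_mem a.2) b.2⟩
      rw [hinf, mem_bot, inv_mul_eq_one] at h1
      exact Subtype.ext h1
    · intro c
      induction c using QuotientGroup.induction_on with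
      | H g =>
        obtain ⟨m, hm, a, ha, rfl⟩ := hdecomp g
        refine ⟨⟨m * a * m⁻¹, hAn.conj_mem a ha m⟩, QuotientGroup.eq.2 ?_⟩
        show (m * a * m⁻¹)⁻¹ * (m * a) ∈ M
        have e : (m * a * m⁻¹)⁻¹ * (m * a) = m := by group
        rwa [e]
  have hindex : M.index = Nat.card A := (Nat.card_eq_of_bijective _ hbij).symm
  rcases isEmpty_or_nonempty {c : G ⧸ M // x • c = c} with hF | ⟨⟨c, hc⟩⟩
  · simp
  induction c using QuotientGroup.induction_on with
  | H g =>
  set y := g⁻¹ * x * g with hy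
  have hyM : y ∈ M := by
    have := QuotientGroup.eq.1 (show ((x * g : G) : G ⧸ M) = (g : G ⧸ M) from hc)
    have h2 := M.inv_mem this
    rwa [show ((x * g)⁻¹ * g)⁻¹ = y by rw [hy]; group] at h2
  have hyp : y ^ p = 1 := by
    rw [hy, show g⁻¹ * x * g = g⁻¹ * x * g⁻¹⁻¹ by group, conj_pow, hxp]; group
  have hy1 : y ≠ 1 := fun h => hx1 (by
    rw [hy, mul_assoc, inv_mul_eq_one] at h
    exact mul_eq_right.1 h.symm)
  set C := A ⊓ centralizer ({y} : Set G) with hC
  -- fixed cosets correspond to `C`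
  have hcount : Nat.card {c : G ⧸ M // x • c = c} ≤ Nat.card C := by
    refine Nat.card_le_card_of_surjective (fun a : C => ⟨((g * a : G) : G ⧸ M), ?_⟩) ?_
    · show ((x * (g * a) : G) : G ⧸ M) = _
      rw [QuotientGroup.eq]
      have h1 : y * (a : G) = a * y := (mem_centralizer_singleton_iff.1 a.2.2).symm
      have e : (x * (g * (a : G)))⁻¹ * (g * a) = y⁻¹ := by
        have : x * (g * (a : G)) = g * a * y := by
          calc x * (g * (a : G)) = g * (y * a) := by rw [hy]; group
            _ = g * a * y := by rw [h1, mul_assoc]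
        rw [this]; group
      rw [e]
      exact M.inv_mem hyM
    · rintro ⟨d, hd⟩
      obtain ⟨a, ha⟩ := hbij.2 (g⁻¹ • d)
      have hd' : d = ((g * a : G) : G ⧸ M) := by
        have := congrArg (g • ·) ha
        simp only [smul_inv_smul] at this
        exact this.symm
      subst hd'
      have h1 : ((x * (g * a) : G) : G ⧸ M) = ((g * a : G) : G ⧸ M) := hd
      have h2 := QuotientGroup.eq.1 h1
      have h3 : (a : G)⁻¹ * y⁻¹ * a * y ∈ M ⊓ A := by
        refine Subgroup.mem_inf.2 ⟨?_, ?_⟩
        · have : (a : G)⁻¹ * y⁻¹ * a ∈ M := by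
            have e : (a : G)⁻¹ * y⁻¹ * a = (x * (g * a))⁻¹ * (g * a) := by rw [hy]; group
            rwa [e]
          exact mul_mem this hyM
        · have := mul_mem (A.inv_mem a.2) (hAn.conj_mem _ a.2 y⁻¹)
          simpa [mul_assoc] using this
      rw [hinf, mem_bot] at h3
      refine ⟨⟨a, a.2, mem_centralizer_singleton_iff.2 ?_⟩, rfl⟩
      symm
      calc y * (a : G) = y * a * ((a : G)⁻¹ * y⁻¹ * a * y) := by rw [h3, mul_one]
        _ = a * y := by group
  have hne : ¬ A ≤ centralizer ({y} : Set G) := by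
    intro h
    have hn : (centralizer (A : Set G) ⊓ M).Normal := ⟨fun n hn k => by
      obtain ⟨m, hm, a, ha, rfl⟩ := hdecomp k
      have h1 : a * n = n * a := mem_centralizer_iff.1 hn.1 a ha
      have e : m * a * n * (m * a)⁻¹ = m * n * m⁻¹ := by
        rw [mul_assoc m a n, h1]; group
      rw [e]
      refine Subgroup.mem_inf.2 ⟨?_, mul_mem (mul_mem hm hn.2) (M.inv_mem hm)⟩
      exact (inferInstance : (centralizer (A : Set G)).Normal).conj_mem n hn.1 m⟩
    have h2 : centralizer (A : Set G) ⊓ M ≤ M.normalCore := normal_le_normalCore.2 inf_le_right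
    have h3 := h2 (Subgroup.mem_inf.2 ⟨mem_centralizer_iff.2 fun a ha =>
      mem_centralizer_singleton_iff.1 (h ha), hyM⟩)
    rw [hcore, mem_bot] at h3
    exact hy1 h3
  have hr : 3 ≤ C.relIndex A := by
    have h1 : C.relIndex A ≠ 1 := fun h => hne ((relIndex_eq_one.1 h).trans inf_le_right)
    have h0 : C.relIndex A ≠ 0 := index_ne_zero_of_finite
    have h2 : C.relIndex A ≠ 2 := fun h => index_two_false hAc hp hyp h
    omega
  have hmul : Nat.card C * C.relIndex A = Nat.card A := by
    have := card_mul_index (C.subgroupOf A)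
    rwa [Nat.card_congr (subgroupOfEquivOfLe (inf_le_left : C ≤ A)).toEquiv] at this
  rw [hindex, ← hmul]
  calc 3 * Nat.card {c : G ⧸ M // x • c = c} ≤ 3 * Nat.card C := Nat.mul_le_mul_left _ hcount
    _ ≤ C.relIndex A * Nat.card C := Nat.mul_le_mul_right _ hr
    _ = Nat.card C * C.relIndex A := mul_comm _ _

theorem fixed_le_of_coatom {G : Type u} [Group G] [Finite G] [Group.IsSolvable G] {M : Subgroup G}
    (hM : IsCoatom M) {p : ℕ} (hp : Odd p) {x : G} (hxp : x ^ p = 1)
    (hgen : normalClosure ({x} : Set G) = ⊤) :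
    3 * Nat.card {c : G ⧸ M // x • c = c} ≤ M.index := by
  classical
  set N := M.normalCore
  let f := QuotientGroup.mk' N
  have hf : Function.Surjective f := QuotientGroup.mk'_surjective N
  have hker : f.ker ≤ M := by rw [QuotientGroup.ker_mk']; exact normalCore_le M
  have hxN : f x ≠ 1 := fun h => hM.1 (top_le_iff.1 (hgen ▸ (normalClosure_le_normal
    (Set.singleton_subset_iff.2 (show x ∈ N from (QuotientGroup.eq_one_iff x).1 h))).trans
      (normalCore_le M)))
  have hcomap : (M.map f).comap f = M := comap_map_eq_self hker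
  have hM' : IsCoatom (M.map f) := by
    refine ⟨fun h => hM.1 (by rw [← hcomap, h, comap_top]), fun K hK => ?_⟩
    have : M < K.comap f := by
      conv_lhs => rw [← hcomap]
      exact (comap_lt_comap_of_surjective hf).2 hK
    have h2 := hM.2 _ this
    rw [← map_comap_eq_self_of_surjective hf K, h2, map_top_of_surjective f hf]
  have hcore : (M.map f).normalCore = ⊥ := by
    refine eq_bot_iff.2 fun k hk => ?_
    obtain ⟨g, rfl⟩ := hf k
    rw [mem_bot]
    refine (QuotientGroup.eq_one_iff g).2 ?_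
    have h1 : ((M.map f).normalCore).comap f ≤ M := by
      conv_rhs => rw [← hcomap]
      exact comap_mono (normalCore_le _)
    exact normal_le_normalCore.2 h1 (show g ∈ ((M.map f).normalCore).comap f from hk)
  have h := fixed_le_of_core_bot hM' hcore hp (x := f x) (by rw [← map_pow, hxp, map_one]) hxN
  have hidx : (M.map f).index = M.index := by
    exact index_map_eq M hf hker
  have hle : Nat.card {c : G ⧸ M // x • c = c} ≤
      Nat.card {c : (G ⧸ N) ⧸ M.map f // f x • c = c} := by
    let φ : G ⧸ M → (G ⧸ N) ⧸ M.map f := Quotient.map' f fun a b hab => by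
      rw [QuotientGroup.leftRel_apply] at hab ⊢
      rw [← map_inv, ← map_mul]
      exact mem_map_of_mem f hab
    have hφ : Function.Injective φ := by
      intro a b h
      induction a using QuotientGroup.induction_on with
      | H a =>
        induction b using QuotientGroup.induction_on with
        | H b =>
          have h1 : ((f a : G ⧸ N) : (G ⧸ N) ⧸ M.map f) = ((f b : G ⧸ N) : (G ⧸ N) ⧸ M.map f) := h
          have h2 := QuotientGroup.eq.1 h1
          rw [← map_inv, ← map_mul] at h2
          exact QuotientGroup.eq.2 (hcomap.le h2)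
    refine Nat.card_le_card_of_injective (fun c => ⟨φ c.1, ?_⟩) fun a b h =>
      Subtype.ext (hφ (congrArg Subtype.val h))
    obtain ⟨c, hc⟩ := c
    induction c using QuotientGroup.induction_on with
    | H a =>
      have := congrArg φ hc
      exact this
  rw [hidx] at h
  omega

/-- A generating element of odd prime order fixes at most a third of the cosets. -/
theorem three_mul_fixed_le {G : Type u} [Group G] [Finite G] [Group.IsSolvable G] {H : Subgroup G}
    (hH : H ≠ ⊤) {p : ℕ} (hp : Odd p) {x : G} (hxp : x ^ p = 1)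
    (hgen : normalClosure ({x} : Set G) = ⊤) :
    3 * Nat.card {c : G ⧸ H // x • c = c} ≤ H.index := by
  classical
  obtain ⟨M, hM, hHM⟩ := (eq_top_or_exists_le_coatom H).resolve_left hH
  let e := quotientEquivProdOfLE hHM
  have h1 : Nat.card {c : G ⧸ H // x • c = c} ≤
      Nat.card {c : G ⧸ M // x • c = c} * Nat.card (M ⧸ H.subgroupOf M) := by
    rw [← Nat.card_prod]
    have hfst : ∀ c : G ⧸ H, x • c = c → x • (e c).1 = (e c).1 := by
      intro c hc
      induction c using QuotientGroup.induction_on with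
      | H a =>
        have h1 := QuotientGroup.eq.1 (show ((x * a : G) : G ⧸ H) = (a : G ⧸ H) from hc)
        show ((x * a : G) : G ⧸ M) = (a : G ⧸ M)
        exact QuotientGroup.eq.2 (hHM h1)
    refine Nat.card_le_card_of_injective (fun c => (⟨(e c.1).1, hfst c.1 c.2⟩, (e c.1).2))
      fun a b h => ?_
    refine Subtype.ext (e.injective (Prod.ext ?_ ?_))
    · exact congrArg (fun z => z.1.1) h
    · exact congrArg (fun z => z.2) h
  have h2 : M.index * Nat.card (M ⧸ H.subgroupOf M) = H.index := by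
    rw [index, index, ← Nat.card_prod, Nat.card_congr e]
  have h3 := fixed_le_of_coatom hM hp hxp hgen
  rw [← h2]
  calc 3 * Nat.card {c : G ⧸ H // x • c = c}
      ≤ 3 * (Nat.card {c : G ⧸ M // x • c = c} * Nat.card (M ⧸ H.subgroupOf M)) :=
        Nat.mul_le_mul_left _ h1
    _ = 3 * Nat.card {c : G ⧸ M // x • c = c} * Nat.card (M ⧸ H.subgroupOf M) :=
        (mul_assoc _ _ _).symm
    _ ≤ _ := Nat.mul_le_mul_right _ h3

/-- Orbit representatives of a permutation of prime order. -/
theorem orbit_reps_bound {Ω : Type*} [Fintype Ω] {p : ℕ} (hp : p.Prime) (σ : Equiv.Perm Ω)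
    (hσ : σ ^ p = 1) :
    ∃ R : Finset Ω, (∀ ω, ∃ i : ℕ, (σ ^ i) ω ∈ R) ∧
      p * R.card ≤ (p - 1) * Nat.card {ω // σ ω = ω} + Nat.card Ω := by
  classical
  have hfree : ∀ a, σ a ≠ a → ∀ i, 0 < i → i < p → (σ ^ i) a ≠ a := by
    intro a ha i hi hip hfix
    obtain ⟨c, -, hc⟩ := Nat.exists_mul_mod_eq_gcd (k := p) (n := i) (by
      have hco : Nat.gcd i p = 1 := (hp.coprime_iff_not_dvd.2 fun hd =>
        absurd (Nat.le_of_dvd hi hd) (by omega)).symm
      rw [hco]; exact hp.one_lt)
    have hco : Nat.gcd i p = 1 := (hp.coprime_iff_not_dvd.2 fun hd =>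
      absurd (Nat.le_of_dvd hi hd) (by omega)).symm
    rw [hco] at hc
    refine ha ?_
    have h1 : ∀ j : ℕ, ((σ ^ i) ^ j) a = a := by
      intro j
      induction j with
      | zero => rfl
      | succ j ih => rw [pow_succ', Equiv.Perm.mul_apply, ih, hfix]
    have h2 := h1 c
    rw [← pow_mul, ← Nat.mod_add_div (i * c) p, hc, pow_add, pow_mul, hσ, one_pow, mul_one,
      pow_one] at h2
    exact h2
  obtain ⟨R, hR⟩ := HHCritical.exists_orbit_reps σ p hp.pos hσ (fun a => σ a ≠ a) hfree
  let Fx : Finset Ω := Finset.univ.filter fun a => σ a = a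
  let R' : Finset Ω := R.filter fun a => σ a ≠ a
  have hstay : ∀ a, σ a ≠ a → ∀ i, σ ((σ ^ i) a) ≠ (σ ^ i) a := by
    intro a ha i h
    refine ha ((σ ^ i).injective ?_)
    rw [← Equiv.Perm.mul_apply, ← pow_succ, pow_succ', Equiv.Perm.mul_apply, h]
  refine ⟨Fx ∪ R', fun ω => ?_, ?_⟩
  · by_cases h : σ ω = ω
    · exact ⟨0, Finset.mem_union_left _ (by simp [Fx, h])⟩
    · obtain ⟨i, ⟨-, hi⟩, -⟩ := hR ω h
      exact ⟨i, Finset.mem_union_right _ (Finset.mem_filter.2 ⟨hi, hstay ω h i⟩)⟩
  · have hcard : p * R'.card ≤ Nat.card {ω // σ ω ≠ ω} := by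
      rw [← Nat.card_fin p, ← Nat.card_eq_finsetCard R', ← Nat.card_prod]
      refine Nat.card_le_card_of_injective (fun z : Fin p × R' =>
        (⟨(σ ^ (z.1 : ℕ)) z.2, hstay _ (Finset.mem_filter.1 z.2.2).2 _⟩ : {ω // σ ω ≠ ω})) ?_
      rintro ⟨i, a, ha⟩ ⟨j, b, hb⟩ h
      have h' : (σ ^ (i : ℕ)) a = (σ ^ (j : ℕ)) b := congrArg Subtype.val h
      have haR := Finset.mem_filter.1 ha
      have hbR := Finset.mem_filter.1 hb
      set w := (σ ^ (i : ℕ)) a with hw
      have key : ∀ (k : Fin p) (c : Ω), c ∈ R → w = (σ ^ (k : ℕ)) c →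
          (σ ^ ((p - (k : ℕ)) % p)) w = c := by
        intro k c _ hk
        rw [hk, ← Equiv.Perm.mul_apply, ← pow_add]
        have hk' := k.2
        rcases Nat.eq_zero_or_pos (k : ℕ) with h0 | h0
        · simp [h0]
        · rw [Nat.mod_eq_of_lt (by omega), Nat.sub_add_cancel hk'.le, hσ]; rfl
      have hwne : σ w ≠ w := hstay a haR.2 _
      have e := (hR w hwne).unique (y₁ := (p - (i : ℕ)) % p) (y₂ := (p - (j : ℕ)) % p)
        ⟨Nat.mod_lt _ hp.pos, (key i a haR.1 rfl).symm ▸ haR.1⟩
        ⟨Nat.mod_lt _ hp.pos, (key j b hbR.1 h').symm ▸ hbR.1⟩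
      have hij : i = j := by
        have hi := i.2
        have hj := j.2
        refine Fin.ext ?_
        rcases Nat.eq_zero_or_pos (i : ℕ) with h1 | h1 <;>
          rcases Nat.eq_zero_or_pos (j : ℕ) with h2 | h2
        · omega
        · rw [h1, Nat.sub_zero, Nat.mod_self, Nat.mod_eq_of_lt (by omega)] at e; omega
        · rw [h2, Nat.sub_zero, Nat.mod_self, Nat.mod_eq_of_lt (by omega)] at e; omega
        · rw [Nat.mod_eq_of_lt (by omega), Nat.mod_eq_of_lt (by omega)] at e; omega
      subst hij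
      exact Prod.ext rfl (Subtype.ext ((σ ^ (i : ℕ)).injective h'))
    have hF : Fx.card = Nat.card {ω // σ ω = ω} := by
      rw [Nat.card_eq_fintype_card, Fintype.card_subtype]
    have hsum : Nat.card {ω // σ ω = ω} + Nat.card {ω // σ ω ≠ ω} = Nat.card Ω := by
      rw [← Nat.card_sum]
      exact Nat.card_congr (Equiv.sumCompl _)
    have h1 : p * (Fx ∪ R').card ≤ p * Fx.card + p * R'.card := by
      rw [← mul_add]; exact Nat.mul_le_mul_left _ (Finset.card_union_le _ _)
    have h2 : p * Fx.card = (p - 1) * Fx.card + Fx.card := by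
      rw [← Nat.succ_mul, Nat.succ_eq_add_one, Nat.sub_add_cancel hp.pos]
    rw [← hF, ← hsum, hF] at *
    omega

end CfsgLib.Core.FixedHalf
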