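import Mathlib
import Cfsg.Agent.Lib.Core.FixedHalf.Perm

/-!
# Fixed space: a noncentral abelian normal subgroup

* `two_mul_fixed_lt_of_abelian`: the idempotents of the algebra of a noncentral abelian normal
  subgroup give the bound on the fixed space
-/

set_option autoImplicit false
set_option linter.all false

namespace CfsgLib.Core.FixedHalf

open Subgroup

universe u

/-- A minimal nonzero idempotent. -/
def IsPrimIdem {R : Type*} [CommRing R] (e : R) : Prop :=
  e * e = e ∧ e ≠ 0 ∧ ∀ f : R, f * f = f → e * f = 0 ∨ e * f = e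

theorem exists_prim_idem {R : Type*} [CommRing R] [IsArtinianRing R] [IsReduced R] [Nontrivial R] :
    ∃ (Ω : Finset R), (∀ e, e ∈ Ω ↔ IsPrimIdem e) ∧ ∑ e ∈ Ω, e = 1 ∧
      (∀ e ∈ Ω, ∀ f ∈ Ω, e ≠ f → e * f = 0) ∧
      (Ω.card = 1 → ∀ b : R, b ≠ 0 → IsUnit b) := by
  classical
  haveI : Fintype (MaximalSpectrum R) := Fintype.ofFinite _
  let Φ := (IsArtinianRing.equivPi R).toRingEquiv
  haveI : ∀ m : MaximalSpectrum R, IsField (R ⧸ m.asIdeal) → True := fun _ _ => trivial
  let e : MaximalSpectrum R → R := fun m => Φ.symm (Pi.single m 1)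
  have hΦe : ∀ m, Φ (e m) = Pi.single m 1 := fun m => Φ.apply_symm_apply _
  have hne : ∀ m, e m ≠ 0 := fun m h => by
    have h1 := congrFun (congrArg Φ h) m
    rw [hΦe, map_zero, Pi.single_eq_same, Pi.zero_apply] at h1
    haveI := m.isMaximal
    exact one_ne_zero h1
  have hmul : ∀ m m', e m * e m' = if m = m' then e m else 0 := by
    intro m m'
    refine Φ.injective (funext fun j => ?_)
    rw [map_mul, Pi.mul_apply, hΦe, hΦe]
    by_cases h : m = m'
    · subst h
      rw [if_pos rfl, hΦe]
      by_cases hj : j = m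
      · subst hj; simp
      · simp [Pi.single_eq_of_ne hj]
    · rw [if_neg h, map_zero]
      by_cases hj : j = m
      · subst hj; simp [Pi.single_eq_of_ne h]
      · simp [Pi.single_eq_of_ne hj]
  have hdich : ∀ m f, f * f = f → e m * f = 0 ∨ e m * f = e m := by
    intro m f hf
    haveI := m.isMaximal
    have h1 : (Φ f m) * (Φ f m) = Φ f m := by rw [← Pi.mul_apply, ← map_mul, hf]
    have h2 : Φ f m = 0 ∨ Φ f m = 1 := IsIdempotentElem.iff_eq_zero_or_one.1 h1
    rcases h2 with h2 | h2
    · refine Or.inl (Φ.injective (funext fun j => ?_))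
      rw [map_mul, Pi.mul_apply, hΦe, map_zero]
      by_cases hj : j = m
      · subst hj; simp [h2]
      · simp [Pi.single_eq_of_ne hj]
    · refine Or.inr (Φ.injective (funext fun j => ?_))
      rw [map_mul, Pi.mul_apply, hΦe]
      by_cases hj : j = m
      · subst hj; simp [h2]
      · simp [Pi.single_eq_of_ne hj]
  have hsum : ∑ m, e m = 1 := Φ.injective (funext fun j => by
    rw [map_sum, Finset.sum_apply, map_one, Finset.sum_eq_single j]
    · rw [hΦe, Pi.single_eq_same]; rfl
    · intro m _ hm; rw [hΦe, Pi.single_eq_of_ne (Ne.symm hm)]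
    · simp)
  have hinj : Function.Injective e := fun m m' h => by
    by_contra hmm
    have := hmul m m'
    rw [if_neg hmm, ← h, hmul, if_pos rfl] at this
    exact hne m this
  refine ⟨Finset.univ.image e, fun f => ⟨?_, ?_⟩, ?_, ?_, ?_⟩
  · intro hf
    obtain ⟨m, -, rfl⟩ := Finset.mem_image.1 hf
    exact ⟨by rw [hmul, if_pos rfl], hne m, hdich m⟩
  · rintro ⟨hf, hf0, hprim⟩
    obtain ⟨m, hm⟩ : ∃ m, e m * f ≠ 0 := by
      by_contra h
      push Not at h
      refine hf0 ?_
      rw [← one_mul f, ← hsum, Finset.sum_mul, Finset.sum_eq_zero fun m _ => h m]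
    refine Finset.mem_image.2 ⟨m, Finset.mem_univ _, ?_⟩
    have h1 := (hdich m f hf).resolve_left hm
    have h2 := (hprim (e m) (by rw [hmul, if_pos rfl])).resolve_left (by rwa [mul_comm])
    rw [← h1, mul_comm, h2]
  · rw [Finset.sum_image fun a _ b _ h => hinj h, hsum]
  · intro a ha b hb hab
    obtain ⟨m, -, rfl⟩ := Finset.mem_image.1 ha
    obtain ⟨m', -, rfl⟩ := Finset.mem_image.1 hb
    rw [hmul, if_neg fun h => hab (by rw [h])]
  · intro hcard b hb
    rw [Finset.card_image_of_injective _ hinj, Finset.card_univ] at hcard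
    haveI : Subsingleton (MaximalSpectrum R) := Fintype.card_le_one_iff_subsingleton.1 hcard.le
    rw [← MulEquiv.isUnit_map Φ.toMulEquiv, Pi.isUnit_iff]
    intro m
    haveI := m.isMaximal
    letI := Ideal.Quotient.field m.asIdeal
    refine isUnit_iff_ne_zero.2 fun h => hb (Φ.injective (funext fun j => ?_))
    rw [map_zero, Subsingleton.elim j m]
    exact h

set_option synthInstance.maxHeartbeats 400000 in
set_option maxHeartbeats 1000000 in
theorem two_mul_fixed_lt_of_abelian {G : Type u} [Group G] [Finite G] [Group.IsSolvable G]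
    {k : Type*} [Field k] {V : Type*} [AddCommGroup V] [Module k V] [FiniteDimensional k V]
    (ρ : G →* Module.End k V) (hfaith : Function.Injective ρ)
    (hirr : ∀ W : Submodule k V, (∀ g, ∀ w ∈ W, ρ g w ∈ W) → W = ⊥ ∨ W = ⊤)
    {p : ℕ} (hp : p.Prime) (hp5 : 5 ≤ p) {x : G} (hxp : x ^ p = 1)
    (hgen : normalClosure ({x} : Set G) = ⊤) (A : Subgroup G) [A.Normal]
    (hAc : ∀ a ∈ A, ∀ b ∈ A, a * b = b * a) (hA : ¬ A ≤ center G) :
    2 * Module.finrank k (LinearMap.ker (ρ x - 1)) < Module.finrank k V := by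
  classical
  obtain ⟨a₁, ha₁, ha₁x⟩ : ∃ a ∈ A, x * a ≠ a * x := by
    by_contra h
    push Not at h
    refine hA fun a ha => mem_center_iff.2 fun g => ?_
    have h1 : normalClosure ({x} : Set G) ≤ centralizer (A : Set G) :=
      normalClosure_le_normal (Set.singleton_subset_iff.2 (mem_centralizer_iff.2 fun b hb =>
        (h b hb).symm))
    rw [hgen] at h1
    exact (mem_centralizer_iff.1 (h1 (mem_top g)) a ha).symm
  haveI hVnt : Nontrivial V := by
    by_contra h
    haveI := not_nontrivial_iff_subsingleton.1 h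
    exact ha₁x (hfaith (LinearMap.ext fun v => Subsingleton.elim _ _))
  have hinv : ∀ g : G, ρ g * ρ g⁻¹ = 1 := fun g => by rw [← map_mul, mul_inv_cancel, map_one]
  have hinv' : ∀ g : G, ρ g⁻¹ * ρ g = 1 := fun g => by rw [← map_mul, inv_mul_cancel, map_one]
  set B := Algebra.adjoin k (ρ '' (A : Set G)) with hB
  letI : CommRing B := Algebra.adjoinCommRingOfComm k (by
    rintro _ ⟨a, ha, rfl⟩ _ ⟨b, hb, rfl⟩
    rw [← map_mul, ← map_mul, hAc a ha b hb])
  haveI : IsArtinianRing B := IsArtinianRing.of_finite k B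
  haveI : Nontrivial B := ⟨⟨0, 1, fun h => zero_ne_one (congrArg Subtype.val h)⟩⟩
  have hmemB : ∀ g : G, ∀ b ∈ B, ρ g * b * ρ g⁻¹ ∈ B := by
    intro g b hb
    induction hb using Algebra.adjoin_induction with
    | mem y hy =>
      obtain ⟨a, ha, rfl⟩ := hy
      rw [← map_mul, ← map_mul]
      exact Algebra.subset_adjoin ⟨_, (inferInstance : A.Normal).conj_mem a ha g, rfl⟩
    | algebraMap r =>
      rw [← Algebra.commutes, mul_assoc, hinv, mul_one]
      exact B.algebraMap_mem r
    | add y z _ _ hy hz => rw [mul_add, add_mul]; exact B.add_mem hy hz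
    | mul y z _ _ hy hz =>
      have : ρ g * (y * z) * ρ g⁻¹ = (ρ g * y * ρ g⁻¹) * (ρ g * z * ρ g⁻¹) := by
        calc ρ g * (y * z) * ρ g⁻¹ = ρ g * (y * (ρ g⁻¹ * ρ g) * z) * ρ g⁻¹ := by rw [hinv', mul_one]
          _ = _ := by simp only [mul_assoc]
      rw [this]
      exact B.mul_mem hy hz
  let σ : G → (B →+* B) := fun g =>
    { toFun := fun b => ⟨ρ g * b * ρ g⁻¹, hmemB g b b.2⟩
      map_one' := Subtype.ext (by show ρ g * 1 * ρ g⁻¹ = 1; rw [mul_one, hinv])
      map_mul' := fun y z => Subtype.ext (by
        show ρ g * ((y : Module.End k V) * z) * ρ g⁻¹ = (ρ g * y * ρ g⁻¹) * (ρ g * z * ρ g⁻¹)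
        calc ρ g * ((y : Module.End k V) * z) * ρ g⁻¹
            = ρ g * ((y : Module.End k V) * (ρ g⁻¹ * ρ g) * z) * ρ g⁻¹ := by rw [hinv', mul_one]
          _ = _ := by simp only [mul_assoc])
      map_zero' := Subtype.ext (by show ρ g * 0 * ρ g⁻¹ = 0; rw [mul_zero, zero_mul])
      map_add' := fun y z => Subtype.ext (by
        show ρ g * ((y : Module.End k V) + z) * ρ g⁻¹ = ρ g * y * ρ g⁻¹ + ρ g * z * ρ g⁻¹
        rw [mul_add, add_mul]) }
  have hσ : ∀ g (b : B), ((σ g b : B) : Module.End k V) = ρ g * b * ρ g⁻¹ := fun g b => rfl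
  have hσσ : ∀ g h (b : B), σ (g * h) b = σ g (σ h b) := fun g h b => Subtype.ext (by
    simp only [hσ, map_mul, mul_inv_rev, mul_assoc])
  have hσ1 : ∀ b : B, σ 1 b = b := fun b => Subtype.ext (by
    rw [hσ, inv_one, map_one, one_mul, mul_one])
  have hpush : ∀ g (b : B) v, (b : Module.End k V) (ρ g v) =
      ρ g ((σ g⁻¹ b : Module.End k V) v) := by
    intro g b v
    rw [hσ, inv_inv]
    show _ = (ρ g * (ρ g⁻¹ * (b : Module.End k V) * ρ g)) v
    rw [← mul_assoc, ← mul_assoc, hinv, one_mul]
    rfl
  haveI hred : IsReduced B := by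
    refine ⟨fun b hb => ?_⟩
    let W : Submodule k V :=
      { carrier := {v | ∀ c : B, IsNilpotent c → (c : Module.End k V) v = 0}
        add_mem' := fun {v w} hv hw c hc => by rw [map_add, hv c hc, hw c hc, add_zero]
        zero_mem' := fun c _ => map_zero _
        smul_mem' := fun r v hv c hc => by rw [map_smul, hv c hc, smul_zero] }
    have hW : W ≠ ⊥ := by
      have hn := IsArtinianRing.isNilpotent_nilradical (R := B)
      have hex : ∃ n, nilradical B ^ n = ⊥ := hn
      have hf := Nat.find_spec hex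
      obtain ⟨n, hn'⟩ : ∃ n, Nat.find hex = n + 1 := by
        refine ⟨Nat.find hex - 1, (Nat.succ_pred_eq_of_pos (Nat.pos_of_ne_zero fun h => ?_)).symm⟩
        rw [h, pow_zero, Ideal.one_eq_top] at hf
        exact top_ne_bot hf
      have hlt : nilradical B ^ n ≠ ⊥ := Nat.find_min hex (by omega)
      obtain ⟨c, hc, hc0⟩ := Submodule.exists_mem_ne_zero_of_ne_bot hlt
      obtain ⟨v, hv⟩ : ∃ v, (c : Module.End k V) v ≠ 0 := by
        by_contra h
        push Not at h
        exact hc0 (Subtype.ext (LinearMap.ext h))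
      intro hbot
      have hm : (c : Module.End k V) v ∈ W := by
        intro d hd
        have h1 : c * d ∈ nilradical B ^ (n + 1) := by
          rw [pow_succ]; exact Ideal.mul_mem_mul hc (mem_nilradical.2 hd)
        rw [← hn', hf, Ideal.mem_bot, mul_comm] at h1
        show ((d : Module.End k V) * (c : Module.End k V)) v = 0
        rw [show ((d : Module.End k V) * (c : Module.End k V)) = ((d * c : B) : Module.End k V) from rfl,
          h1]
        rfl
      rw [hbot, Submodule.mem_bot] at hm
      exact hv hm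
    have hWi : ∀ g, ∀ w ∈ W, ρ g w ∈ W := by
      intro g w hw c hc
      rw [hpush, hw _ (hc.map (σ g⁻¹)), map_zero]
    rcases hirr W hWi with h | h
    · exact absurd h hW
    · exact Subtype.ext (LinearMap.ext fun v => (h.ge (Submodule.mem_top (x := v))) b hb)
  obtain ⟨Ω, hΩ, hsum, horth, hfield⟩ := exists_prim_idem (R := B)
  have hσΩ : ∀ g, ∀ e ∈ Ω, σ g e ∈ Ω := by
    intro g e he
    obtain ⟨h1, h2, h3⟩ := (hΩ e).1 he
    refine (hΩ _).2 ⟨by rw [← map_mul, h1], fun h => h2 ?_, fun f hf => ?_⟩
    · have := congrArg (σ g⁻¹) h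
      rwa [← hσσ, inv_mul_cancel, hσ1, map_zero] at this
    · have hback : σ g (σ g⁻¹ f) = f := by rw [← hσσ, mul_inv_cancel, hσ1]
      rcases h3 (σ g⁻¹ f) (by rw [← map_mul, hf]) with h | h
      · left; rw [← hback, ← map_mul, h, map_zero]
      · right
        conv_lhs => rw [← hback, ← map_mul, h]
  letI : MulAction G Ω :=
    { smul := fun g e => ⟨σ g e, hσΩ g e e.2⟩
      one_smul := fun e => Subtype.ext (hσ1 _)
      mul_smul := fun g h e => Subtype.ext (hσσ g h _) }
  have hsmul : ∀ (g : G) (e : Ω), ((g • e : Ω) : B) = σ g e := fun g e => rfl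
  haveI : Nonempty Ω := by
    by_contra h
    rw [not_nonempty_iff] at h
    have : Ω = ∅ := Finset.eq_empty_of_forall_notMem fun e he => h.elim ⟨e, he⟩
    rw [this, Finset.sum_empty] at hsum
    exact zero_ne_one hsum
  -- transitivity
  have htrans : ∀ e e' : Ω, ∃ g : G, g • e = e' := by
    intro e e'
    by_contra hno
    push Not at hno
    let S : Finset Ω := Finset.univ.filter fun f => ∃ g : G, g • e = f
    set s : B := ∑ f ∈ S, (f : B) with hs
    have hse : ∀ g, σ g s = s := by
      intro g
      rw [hs, map_sum]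
      refine Finset.sum_nbij' (fun f => g • f) (fun f => g⁻¹ • f) ?_ ?_ ?_ ?_ ?_
      · intro f hf
        obtain ⟨h, hh⟩ := (Finset.mem_filter.1 hf).2
        exact Finset.mem_filter.2 ⟨Finset.mem_univ _, g * h, by rw [mul_smul, hh]⟩
      · intro f hf
        obtain ⟨h, hh⟩ := (Finset.mem_filter.1 hf).2
        exact Finset.mem_filter.2 ⟨Finset.mem_univ _, g⁻¹ * h, by rw [mul_smul, hh]⟩
      · intro f _; exact inv_smul_smul g f
      · intro f _; exact smul_inv_smul g f
      · intro f _; rfl
    have hmulS : ∀ f : Ω, s * f = if f ∈ S then (f : B) else 0 := by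
      intro f
      rw [hs, Finset.sum_mul]
      by_cases hf : f ∈ S
      · rw [if_pos hf, Finset.sum_eq_single f]
        · exact ((hΩ _).1 f.2).1
        · intro f' _ hne; exact horth _ f'.2 _ f.2 fun h => hne (Subtype.ext h)
        · exact fun h => absurd hf h
      · rw [if_neg hf, Finset.sum_eq_zero]
        intro f' hf'
        exact horth _ f'.2 _ f.2 fun h => hf (by rwa [← Subtype.ext h])
    have hee : s * e = e := by
      rw [hmulS, if_pos (Finset.mem_filter.2 ⟨Finset.mem_univ _, 1, one_smul _ _⟩)]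
    have hee' : s * e' = 0 := by
      rw [hmulS, if_neg fun h => by
        obtain ⟨g, hg⟩ := (Finset.mem_filter.1 h).2
        exact hno g hg]
    rcases hirr (LinearMap.ker (s : Module.End k V)) (fun g w hw => by
      rw [LinearMap.mem_ker] at hw ⊢
      rw [hpush, hse, hw, map_zero]) with h | h
    · refine ((hΩ _).1 e'.2).2.1 (Subtype.ext (LinearMap.ext fun v => ?_))
      have h1 : (s : Module.End k V) (((e' : B) : Module.End k V) v) = 0 := by
        show ((s * e' : B) : Module.End k V) v = 0
        rw [hee']; rfl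
      exact LinearMap.ker_eq_bot'.1 h _ h1
    · refine ((hΩ _).1 e.2).2.1 (Subtype.ext (LinearMap.ext fun v => ?_))
      rw [← hee]
      exact LinearMap.congr_fun (LinearMap.ker_eq_top.1 h) _
  set C := LinearMap.ker (ρ x - 1) with hC
  have hCmem : ∀ v ∈ C, ρ x v = v := fun v hv => sub_eq_zero.1 (LinearMap.mem_ker.1 hv)
  by_cases hall : ∀ e : Ω, x • e = e
  · -- the algebra is a field
    have hone : Subsingleton Ω := by
      refine ⟨fun e e' => ?_⟩
      obtain ⟨g, rfl⟩ := htrans e e'
      have h1 : normalClosure ({x} : Set G) ≤ (MulAction.toPermHom G Ω).ker :=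
        normalClosure_le_normal (Set.singleton_subset_iff.2 (Equiv.ext hall))
      rw [hgen] at h1
      exact (Equiv.congr_fun (h1 (mem_top g)) e).symm
    have hu : ∀ b : B, b ≠ 0 → IsUnit b := by
      refine hfield ?_
      rw [← Fintype.card_coe]
      exact le_antisymm (Fintype.card_le_one_iff_subsingleton.2 hone) Fintype.card_pos
    have hinjB : ∀ b : B, b ≠ 0 → ∀ v, (b : Module.End k V) v = 0 → v = 0 := by
      intro b hb v hv
      obtain ⟨c, hc⟩ := (hu b hb).exists_left_inv
      have h1 : ((c : B) : Module.End k V) ((b : Module.End k V) v) = v := by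
        show ((c * b : B) : Module.End k V) v = v
        rw [hc]; rfl
      rw [← h1, hv, map_zero]
    let b : B := ⟨ρ a₁, Algebra.subset_adjoin ⟨a₁, ha₁, rfl⟩⟩
    set b1 := σ x b with hb1
    set b2 := σ x b1 with hb2
    have h01 : b ≠ b1 := fun h => ha₁x (hfaith (by
      have h2 : ρ a₁ = ρ x * ρ a₁ * ρ x⁻¹ := congrArg Subtype.val h
      rw [map_mul, map_mul]
      conv_rhs => rw [h2, mul_assoc, hinv', mul_one]))
    have h12 : b1 ≠ b2 := fun h => h01 (by
      have hc : ∀ c, σ x⁻¹ (σ x c) = c := fun c => by rw [← hσσ, inv_mul_cancel, hσ1]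
      exact (hc b).symm.trans ((congrArg (σ x⁻¹) h).trans (hc b1)))
    have h02 : b ≠ b2 := by
      intro h
      refine h01 ?_
      have hiter : ∀ j : ℕ, σ (x ^ (2 * j)) b = b := by
        intro j
        induction j with
        | zero => rw [mul_zero, pow_zero, hσ1]
        | succ j ih => rw [mul_add, mul_one, pow_add, pow_two, hσσ, hσσ, ← hb1, ← hb2, ← h, ih]
      obtain ⟨t, ht⟩ := hp.odd_of_ne_two (by omega)
      have h2 := hiter (t + 1)
      rw [show 2 * (t + 1) = p + 1 by omega, pow_succ, hxp, one_mul] at h2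
      exact h2.symm
    let L : (C × C × C) →ₗ[k] V :=
      C.subtype.comp (LinearMap.fst k C (C × C)) +
        ((b : Module.End k V).comp (C.subtype.comp ((LinearMap.fst k C C).comp (LinearMap.snd k C (C × C))))) +
        (((b * b : B) : Module.End k V).comp
          (C.subtype.comp ((LinearMap.snd k C C).comp (LinearMap.snd k C (C × C)))))
    have hL : Function.Injective L := by
      rw [← LinearMap.ker_eq_bot, LinearMap.ker_eq_bot']
      rintro ⟨c0, c1, c2⟩ h0
      have hmove : ∀ (c : B) (w : C), ρ x ((c : Module.End k V) w) = (σ x c : Module.End k V) w := by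
        intro c w
        have := hpush x (σ x c) (w : V)
        rw [← hσσ, inv_mul_cancel, hσ1, hCmem _ w.2] at this
        exact this.symm
      have e0 : (c0 : V) + (b : Module.End k V) c1 + ((b * b : B) : Module.End k V) c2 = 0 := h0
      have hnext : ∀ c : B, (c0 : V) + (c : Module.End k V) c1 + ((c * c : B) : Module.End k V) c2 = 0 →
          (c0 : V) + (σ x c : Module.End k V) c1 + ((σ x c * σ x c : B) : Module.End k V) c2 = 0 := by
        intro c hc
        have := congrArg (ρ x) hc
        rwa [map_add, map_add, map_zero, hCmem _ c0.2, hmove, hmove, map_mul] at this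
      have e1 := hnext b e0
      have e2 := hnext b1 e1
      have hdiff : ∀ c c' : B, c ≠ c' →
          (c0 : V) + (c : Module.End k V) c1 + ((c * c : B) : Module.End k V) c2 = 0 →
          (c0 : V) + (c' : Module.End k V) c1 + ((c' * c' : B) : Module.End k V) c2 = 0 →
          (c1 : V) + ((c + c' : B) : Module.End k V) c2 = 0 := by
        intro c c' hne h h'
        refine hinjB (c - c') (sub_ne_zero.2 hne) _ ?_
        have e : (c - c') * (c + c') = c * c - c' * c' := by ring
        rw [map_add, ← Module.End.mul_apply,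
          show ((c - c' : B) : Module.End k V) * ((c + c' : B) : Module.End k V) =
            (((c - c') * (c + c') : B) : Module.End k V) from rfl, e]
        show ((c : Module.End k V) - c') c1 + (((c * c : B) : Module.End k V) -
          ((c' * c' : B) : Module.End k V)) c2 = 0
        rw [LinearMap.sub_apply, LinearMap.sub_apply]
        have := congrArg₂ (· - ·) h h'
        simp only [sub_zero] at this
        rw [← this]
        abel
      have f1 := hdiff b b1 h01 e0 e1
      have f2 := hdiff b b2 h02 e0 e2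
      have hc2 : (c2 : V) = 0 := by
        refine hinjB (b1 - b2) (sub_ne_zero.2 h12) _ ?_
        have := congrArg₂ (· - ·) f1 f2
        simp only [sub_zero] at this
        rw [← this]
        show ((b1 : Module.End k V) - b2) (c2 : V) = ((c1 : V) + ((b : Module.End k V) + b1) c2) -
          ((c1 : V) + ((b : Module.End k V) + b2) c2)
        simp only [LinearMap.sub_apply, LinearMap.add_apply]
        abel
      rw [hc2, map_zero, add_zero] at f1
      rw [f1, hc2, map_zero, map_zero, add_zero, add_zero] at e0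
      exact Prod.ext (Subtype.ext e0) (Prod.ext (Subtype.ext f1) (Subtype.ext hc2))
    have h3 := LinearMap.finrank_le_finrank_of_injective hL
    rw [Module.finrank_prod, Module.finrank_prod] at h3
    have hpos : 0 < Module.finrank k V := Module.finrank_pos
    omega
  -- the idempotents are moved
  push Not at hall
  obtain ⟨e₀, he₀⟩ := hall
  let T : Ω → Module.End k V := fun e => ((e : B) : Module.End k V)
  have hTT : ∀ e f : Ω, T e * T f = if e = f then T e else 0 := by
    intro e f
    show (((e : B) * (f : B) : B) : Module.End k V) = _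
    by_cases h : e = f
    · subst h; rw [if_pos rfl, ((hΩ _).1 e.2).1]
    · rw [if_neg h, horth _ e.2 _ f.2 fun h' => h (Subtype.ext h')]; rfl
  have hTsum : ∑ e, T e = 1 := by
    have h1 := congrArg Subtype.val hsum
    rw [Finset.univ_eq_attach]
    show ∑ e ∈ Ω.attach, (fun z : B => (z : Module.End k V)) e.1 = 1
    rw [Finset.sum_attach Ω (fun z : B => (z : Module.End k V))]
    exact (by simpa using h1)
  have hdim : ∀ e, Module.finrank k (LinearMap.range (T e)) =
      Module.finrank k (LinearMap.range (T e₀)) := by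
    intro e
    obtain ⟨g, rfl⟩ := htrans e₀ e
    have hTg : T (g • e₀) = ρ g * T e₀ * ρ g⁻¹ := rfl
    have e' : LinearMap.range (T (g • e₀)) = (LinearMap.range (T e₀)).map (ρ g) := by
      apply le_antisymm
      · rintro _ ⟨v, rfl⟩
        exact ⟨T e₀ (ρ g⁻¹ v), ⟨_, rfl⟩, rfl⟩
      · rintro _ ⟨_, ⟨v, rfl⟩, rfl⟩
        refine ⟨ρ g v, ?_⟩
        rw [hTg]
        show (ρ g * T e₀) ((ρ g⁻¹ * ρ g) v) = _
        rw [hinv']; rfl
    rw [e']
    refine (Submodule.equivMapOfInjective _ (fun v w h => ?_) _).finrank_eq.symm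
    have h1 := congrArg (ρ g⁻¹) h
    rwa [← Module.End.mul_apply, ← Module.End.mul_apply, hinv', Module.End.one_apply,
      Module.End.one_apply] at h1
  set w := Module.finrank k (LinearMap.range (T e₀)) with hw
  have htotal : Nat.card Ω * w = Module.finrank k V := by
    let f : V →ₗ[k] ((e : Ω) → LinearMap.range (T e)) := LinearMap.pi fun e => (T e).rangeRestrict
    have hf : Function.Bijective f := by
      constructor
      · intro v v' h
        have h1 : ∀ e, T e v = T e v' := fun e => congrArg Subtype.val (congrFun h e)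
        have : (∑ e, T e) v = (∑ e, T e) v' := by
          rw [LinearMap.sum_apply, LinearMap.sum_apply]
          exact Finset.sum_congr rfl fun e _ => h1 e
        rwa [hTsum] at this
      · intro y
        refine ⟨∑ e, (y e : V), funext fun e => Subtype.ext ?_⟩
        show T e (∑ e', (y e' : V)) = y e
        rw [map_sum, Finset.sum_eq_single e]
        · obtain ⟨v, hv⟩ := (y e).2
          rw [← hv, ← Module.End.mul_apply, hTT, if_pos rfl]
        · intro e' _ hne
          obtain ⟨v, hv⟩ := (y e').2
          rw [← hv, ← Module.End.mul_apply, hTT, if_neg (Ne.symm hne)]; rfl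
        · simp
    rw [(LinearEquiv.ofBijective f hf).finrank_eq, Module.finrank_pi_fintype,
      Finset.sum_congr rfl (fun e _ => hdim e), Finset.sum_const, Finset.card_univ, smul_eq_mul,
      ← Nat.card_eq_fintype_card]
  let π : Equiv.Perm Ω := MulAction.toPerm x
  have hπ : ∀ (i : ℕ) e, (π ^ i) e = x ^ i • e := by
    intro i
    induction i with
    | zero => intro e; rw [pow_zero, pow_zero, one_smul]; rfl
    | succ i ih => intro e; rw [pow_succ', Equiv.Perm.mul_apply, ih, pow_succ', mul_smul]; rfl
  obtain ⟨R, hR, hRb⟩ := orbit_reps_bound hp π (Equiv.ext fun e => by rw [hπ, hxp, one_smul]; rfl)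
  have hupper : Module.finrank k C ≤ R.card * w := by
    let f : C →ₗ[k] ((r : R) → LinearMap.range (T r)) :=
      LinearMap.pi fun r => (T r).rangeRestrict.comp C.subtype
    have hinj : Function.Injective f := by
      rw [← LinearMap.ker_eq_bot, LinearMap.ker_eq_bot']
      intro c hc
      refine Subtype.ext ?_
      show (c : V) = 0
      rw [← show (∑ e, T e) (c : V) = c by rw [hTsum]; rfl, LinearMap.sum_apply]
      refine Finset.sum_eq_zero fun e _ => ?_
      obtain ⟨i, hi⟩ := hR e
      have h1 : T ((π ^ i) e) (c : V) = 0 := congrArg Subtype.val (congrFun hc ⟨_, hi⟩)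
      rw [hπ] at h1
      change (ρ (x ^ i) * T e * ρ (x ^ i)⁻¹) (c : V) = 0 at h1
      have h2 : ρ (x ^ i) (c : V) = c := by
        clear h1 hi
        induction i with
        | zero => rw [pow_zero, map_one]; rfl
        | succ i ih => rw [pow_succ', map_mul, Module.End.mul_apply, ih, hCmem _ c.2]
      have h3 : ρ (x ^ i)⁻¹ (c : V) = c := by
        conv_lhs => rw [← h2]
        rw [← Module.End.mul_apply, hinv']; rfl
      rw [Module.End.mul_apply, Module.End.mul_apply, h3] at h1
      have h4 := congrArg (ρ (x ^ i)⁻¹) h1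
      rwa [← Module.End.mul_apply, hinv', Module.End.one_apply, map_zero] at h4
    have h1 := LinearMap.finrank_le_finrank_of_injective hinj
    rw [Module.finrank_pi_fintype, Finset.sum_congr rfl (fun (r : R) _ => hdim r.1), Finset.sum_const,
      Finset.card_univ, Fintype.card_coe, smul_eq_mul] at h1
    exact h1
  -- the number of fixed idempotents
  have hF : 3 * Nat.card {e : Ω // π e = e} ≤ Nat.card Ω := by
    set H := MulAction.stabilizer G e₀ with hH
    have horb : MulAction.orbit G e₀ = Set.univ := Set.eq_univ_of_forall fun e => htrans e₀ e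
    let q : G ⧸ H ≃ Ω := ((MulAction.orbitEquivQuotientStabilizer G e₀).symm.trans
      (Equiv.setCongr horb)).trans (Equiv.Set.univ Ω)
    have hq : ∀ g : G, q (g : G ⧸ H) = g • e₀ := fun g => rfl
    have hHt : H ≠ ⊤ := fun h => he₀ (MulAction.mem_stabilizer_iff.1 (h.ge (mem_top x)))
    have h1 := three_mul_fixed_le hHt (hp.odd_of_ne_two (by omega)) hxp hgen
    have h2 : Nat.card {e : Ω // π e = e} = Nat.card {c : G ⧸ H // x • c = c} := by
      refine (Nat.card_congr (Equiv.subtypeEquiv q fun c => ?_)).symm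
      induction c using QuotientGroup.induction_on with
      | H g =>
        show x • (g : G ⧸ H) = g ↔ x • q (g : G ⧸ H) = q (g : G ⧸ H)
        rw [hq, ← mul_smul, ← hq, ← q.injective.eq_iff]
        rfl
    rw [h2, ← Nat.card_congr q]
    exact h1
  obtain ⟨S, hS⟩ : ∃ S, S = Nat.card Ω := ⟨_, rfl⟩
  have hSpos : 0 < S := hS ▸ Nat.card_pos
  have hwpos : 0 < w := by
    rw [hw]
    refine Nat.pos_of_ne_zero fun h => ((hΩ _).1 e₀.2).2.1 (Subtype.ext ?_)
    exact LinearMap.range_eq_bot.1 (Submodule.finrank_eq_zero.1 h)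
  have h2R : 2 * R.card < S := by
    subst hS
    have h1 : 3 * ((p - 1) * Nat.card {e : Ω // π e = e}) ≤ (p - 1) * Nat.card Ω := by
      rw [Nat.mul_left_comm]; exact Nat.mul_le_mul_left _ hF
    obtain ⟨m, hm⟩ : ∃ m, p = m + 5 := ⟨p - 5, by omega⟩
    rw [hm, show m + 5 - 1 = m + 4 by omega] at h1
    rw [hm, show m + 5 - 1 = m + 4 by omega] at hRb
    nlinarith
  calc 2 * Module.finrank k C ≤ 2 * (R.card * w) := Nat.mul_le_mul_left _ hupper
    _ = 2 * R.card * w := (mul_assoc _ _ _).symm
    _ < S * w := Nat.mul_lt_mul_of_pos_right h2R hwpos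
    _ = Module.finrank k V := by rw [hS, htotal]

end CfsgLib.Core.FixedHalf
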