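import Mathlib

/-!
# Fixed space of an operator normalising a group of symplectic type

* `two_mul_fixed_lt_of_orbit_reps`: if the conjugation action of `x` on `Q / Z(Q)` has few orbits,
  the fixed space of `x` has dimension less than half
-/

set_option autoImplicit false
set_option linter.all false

namespace CfsgLib.Core.FixedHalf

open Subgroup
open scoped commutatorElement

universe u

variable {G : Type u} [Group G]

/-- The action of `x` on `Q / Z(Q)`. -/
noncomputable def conjBar (Q : Subgroup G) [Q.Normal] (x : G) : MulAut (Q ⧸ center Q) :=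
  QuotientGroup.congr (center Q) (center Q) (MulAut.conjNormal x)
    (characteristic_iff_map_eq.1 inferInstance (MulAut.conjNormal x))

theorem conjBar_mk (Q : Subgroup G) [Q.Normal] (x : G) (a : Q) :
    conjBar Q x (a : Q ⧸ center Q) = ((MulAut.conjNormal x a : Q) : Q ⧸ center Q) := rfl

theorem conjBar_pow (Q : Subgroup G) [Q.Normal] (x : G) (i : ℕ) (a : Q ⧸ center Q) :
    (conjBar Q x ^ i) a = conjBar Q (x ^ i) a := by
  induction a using QuotientGroup.induction_on with
  | H a =>
    induction i with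
    | zero => rw [pow_zero, pow_zero, conjBar_mk, map_one]; rfl
    | succ i ih =>
      rw [pow_succ', MulAut.mul_apply, ih, conjBar_mk, conjBar_mk, conjBar_mk, pow_succ' x i,
        map_mul, MulAut.mul_apply]

variable [Finite G] {K : Type*} [Field K] {V : Type*} [AddCommGroup V] [Module K V]
  [FiniteDimensional K V]

theorem two_mul_fixed_lt_of_orbit_reps (ρ : G →* Module.End K V) (hfaith : Function.Injective ρ)
    (hsc : ∀ z ∈ center G, ∃ c : K, ρ z = c • 1) (Q : Subgroup G) [Q.Normal]
    (hcen : ∀ a ∈ Q, (∀ b ∈ Q, a * b = b * a) → a ∈ center G)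
    (hcom : ∀ a ∈ Q, ∀ b ∈ Q, ⁅a, b⁆ ∈ center G)
    (hN : (Nat.card (Q ⧸ center Q) : K) ≠ 0) {x : G} (hx1 : x ≠ 1)
    (R : Finset (Q ⧸ center Q)) (hR : ∀ v, ∃ i : ℕ, (conjBar Q x ^ i) v ∈ R)
    (h4 : 4 * R.card ≤ Nat.card (Q ⧸ center Q)) :
    2 * Module.finrank K (LinearMap.ker (ρ x - 1)) < Module.finrank K V := by
  classical
  haveI hVnt : Nontrivial V := by
    by_contra h
    haveI := not_nontrivial_iff_subsingleton.1 h
    exact hx1 (hfaith (LinearMap.ext fun v => Subsingleton.elim _ _))
  haveI : Fintype (Q ⧸ center Q) := Fintype.ofFinite _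
  have hone : ∀ {c c' : K}, c • (1 : Module.End K V) = c' • 1 → c = c' := by
    intro c c' h
    by_contra hne
    obtain ⟨v, hv⟩ := exists_ne (0 : V)
    have h1 := LinearMap.congr_fun h v
    simp only [LinearMap.smul_apply, Module.End.one_apply] at h1
    exact hne (smul_left_injective K hv h1)
  have hinv : ∀ g : G, ρ g * ρ g⁻¹ = 1 := fun g => by rw [← map_mul, mul_inv_cancel, map_one]
  have hinv' : ∀ g : G, ρ g⁻¹ * ρ g = 1 := fun g => by rw [← map_mul, inv_mul_cancel, map_one]
  -- the pairing
  have hβex : ∀ a b : Q, ∃ c : K, ρ (a : G) * ρ (b : G) = c • (ρ (b : G) * ρ (a : G)) := by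
    intro a b
    obtain ⟨c, hc⟩ := hsc _ (hcom a a.2 b b.2)
    refine ⟨c, ?_⟩
    have e : ρ (a : G) * ρ (b : G) = ρ ⁅(a : G), (b : G)⁆ * (ρ (b : G) * ρ (a : G)) := by
      rw [← map_mul, ← map_mul, ← map_mul]
      congr 1
      rw [commutatorElement_def]; group
    rw [e, hc, smul_mul_assoc, one_mul]
  choose β hβ using hβex
  have hcancel : ∀ (g : G) {c c' : K}, c • ρ g = c' • ρ g → c = c' := by
    intro g c c' h
    refine hone ?_
    have := congrArg (fun T => T * ρ g⁻¹) h
    simpa only [smul_mul_assoc, hinv] using this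
  have hβmul : ∀ a a' b : Q, β (a * a') b = β a b * β a' b := by
    intro a a' b
    refine hcancel ((b : G) * ((a : G) * (a' : G))) ?_
    rw [map_mul ρ (b : G), ← Subgroup.coe_mul, ← hβ (a * a') b, Subgroup.coe_mul, map_mul ρ (a : G),
      mul_assoc (ρ (a : G)), hβ a' b, mul_smul_comm, ← mul_assoc, hβ a b, smul_mul_assoc, smul_smul,
      mul_comm (β a' b), mul_assoc (ρ (b : G))]
  have hβswap : ∀ a b : Q, β a b * β b a = 1 := by
    intro a b
    refine hcancel ((a : G) * b) ?_
    rw [one_smul, map_mul, ← smul_smul, ← hβ b a, ← hβ a b]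
  have hβne : ∀ a b : Q, β a b ≠ 0 := fun a b h => by
    have := hβswap a b; rw [h, zero_mul] at this; exact zero_ne_one this
  have hβiff : ∀ a b : Q, β a b = 1 ↔ (a : G) * b = b * a := by
    intro a b
    constructor
    · intro h
      refine hfaith ?_
      rw [map_mul, map_mul, hβ a b, h, one_smul]
    · intro h
      refine hcancel ((a : G) * b) ?_
      conv_lhs => rw [h, map_mul, ← hβ a b, ← map_mul]
      rw [one_smul]
  have hβmul' : ∀ a b b' : Q, β a (b * b') = β a b * β a b' := by
    intro a b b'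
    have h1 := hβswap (b * b') a
    rw [hβmul] at h1
    have h2 := hβswap b a
    have h3 := hβswap b' a
    apply mul_left_cancel₀ (mul_ne_zero (hβne b a) (hβne b' a))
    rw [h1]
    calc (1 : K) = (β b a * β a b) * (β b' a * β a b') := by rw [h2, h3, one_mul]
      _ = β b a * β b' a * (β a b * β a b') := by ring
  have hzG : ∀ z ∈ center Q, (z : G) ∈ center G := fun z hz =>
    hcen _ z.2 fun b hb => (congrArg Subtype.val (mem_center_iff.1 hz ⟨b, hb⟩)).symm
  have hβz : ∀ z ∈ center Q, ∀ b : Q, β z b = 1 := fun z hz b =>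
    (hβiff z b).2 (mem_center_iff.1 (hzG z hz) b).symm
  let s : Q ⧸ center Q → Q := fun a => a.out
  have hs : ∀ a, ((s a : Q) : Q ⧸ center Q) = a := fun a => QuotientGroup.out_eq' a
  have hrep : ∀ a : Q, ∃ z ∈ center Q, s (a : Q ⧸ center Q) = a * z := fun a =>
    ⟨a⁻¹ * s (a : Q ⧸ center Q), QuotientGroup.eq.1 (hs _).symm, by rw [mul_inv_cancel_left]⟩
  have hβl : ∀ a b : Q, β (s (a : Q ⧸ center Q)) b = β a b := fun a b => by
    obtain ⟨z, hz, e⟩ := hrep a
    rw [e, hβmul, hβz z hz, mul_one]
  have hβr : ∀ a b : Q, β a (s (b : Q ⧸ center Q)) = β a b := fun a b => by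
    obtain ⟨z, hz, e⟩ := hrep b
    have h1 := hβswap z a
    rw [hβz z hz, one_mul] at h1
    rw [e, hβmul', h1, mul_one]
  -- conjugation
  let cj : G → (Module.End K V →ₗ[K] Module.End K V) := fun g =>
    (LinearMap.mulLeft K (ρ g)).comp (LinearMap.mulRight K (ρ g⁻¹))
  have hcj : ∀ g T, cj g T = ρ g * T * ρ g⁻¹ := fun g T => (mul_assoc _ _ _).symm
  have hcjmul : ∀ g h T, cj (g * h) T = cj g (cj h T) := fun g h T => by
    simp only [hcj, map_mul, mul_inv_rev, mul_assoc]
  have hcjz : ∀ z ∈ center G, ∀ T, cj z T = T := by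
    intro z hz T
    obtain ⟨c, hc⟩ := hsc z hz
    have : ρ z * T = T * ρ z := by rw [hc, smul_mul_assoc, one_mul, mul_smul_comm, mul_one]
    rw [hcj, this, mul_assoc, hinv, mul_one]
  have hcjs : ∀ (a : Q) T, cj (s (a : Q ⧸ center Q) : G) T = cj (a : G) T := fun a T => by
    obtain ⟨z, hz, e⟩ := hrep a
    rw [e, Subgroup.coe_mul, hcjmul, hcjz _ (hzG z hz)]
  -- the projections
  let N : K := (Nat.card (Q ⧸ center Q) : K)
  let P : Q ⧸ center Q → (Module.End K V →ₗ[K] Module.End K V) := fun v =>
    N⁻¹ • ∑ a : Q ⧸ center Q, (β (s a) (s v))⁻¹ • cj (s a : G)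
  have hP : ∀ v T, P v T = N⁻¹ • ∑ a : Q ⧸ center Q, (β (s a) (s v))⁻¹ • cj (s a : G) T := fun v T => by
    simp only [P, LinearMap.smul_apply, LinearMap.sum_apply]
  have horth : ∀ w : Q ⧸ center Q, w ≠ 1 → ∃ b, β (s w) b ≠ 1 := by
    intro w hw
    by_contra hall
    push Not at hall
    refine hw ?_
    rw [← hs w]
    refine (QuotientGroup.eq_one_iff _).2 (mem_center_iff.2 fun b => Subtype.ext ?_)
    exact ((hβiff (s w) b).1 (hall b)).symm
  have hsum0 : ∀ w : Q ⧸ center Q, w ≠ 1 → ∑ v : Q ⧸ center Q, (β (s w) (s v))⁻¹ = 0 := by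
    intro w hw
    obtain ⟨b, hb⟩ := horth w hw
    have h1 : ∑ v : Q ⧸ center Q, (β (s w) (s v))⁻¹ =
        (β (s w) b)⁻¹ * ∑ v : Q ⧸ center Q, (β (s w) (s v))⁻¹ := by
      rw [Finset.mul_sum]
      conv_lhs => rw [← Equiv.sum_comp (Equiv.mulLeft (b : Q ⧸ center Q))]
      refine Finset.sum_congr rfl fun v _ => ?_
      rw [← _root_.mul_inv]
      congr 1
      show β (s w) (s ((b : Q ⧸ center Q) * v)) = _
      conv_lhs => rw [← hs v, ← QuotientGroup.mk_mul, hβr, hβmul']
    have h2 : ((β (s w) b)⁻¹ - 1) * ∑ v : Q ⧸ center Q, (β (s w) (s v))⁻¹ = 0 := by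
      rw [sub_mul, one_mul, ← h1, sub_self]
    rcases mul_eq_zero.1 h2 with h | h
    · exact absurd (inv_eq_one.1 (sub_eq_zero.1 h)) hb
    · exact h
  have hsum0' : ∀ w : Q ⧸ center Q, w ≠ 1 → ∑ a : Q ⧸ center Q, β (s a) (s w) = 0 := by
    intro w hw
    rw [← hsum0 w hw]
    refine Finset.sum_congr rfl fun a _ => ?_
    exact eq_inv_of_mul_eq_one_left (hβswap _ _)
  have hcov : ∀ (b : Q) v T, cj (b : G) (P v T) = β b (s v) • P v T := by
    intro b v T
    rw [hP, map_smul, map_sum, smul_comm (β b (s v))]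
    congr 1
    rw [Finset.smul_sum]
    conv_rhs => rw [← Equiv.sum_comp (Equiv.mulLeft (b : Q ⧸ center Q))]
    refine Finset.sum_congr rfl fun a _ => ?_
    rw [map_smul, Equiv.coe_mulLeft, smul_smul, ← hcjmul, ← Subgroup.coe_mul]
    have e : (b : Q ⧸ center Q) * a = ((b * s a : Q) : Q ⧸ center Q) := by
      rw [QuotientGroup.mk_mul, hs]
    show _ = (β b (s v) * (β (s ((b : Q ⧸ center Q) * a)) (s v))⁻¹) • cj (s ((b : Q ⧸ center Q) * a) : G) T
    rw [e, hcjs, hβl, hβmul]
    congr 1
    field_simp [hβne b (s v)]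
  have hdec : ∀ T, ∑ v, P v T = T := by
    intro T
    simp only [hP, ← Finset.smul_sum]
    rw [Finset.sum_comm]
    simp only [← Finset.sum_smul]
    rw [Finset.sum_eq_single (1 : Q ⧸ center Q)]
    · have hz1 : ((s 1 : Q) : G) ∈ center G := hzG _ ((QuotientGroup.eq_one_iff _).1 (hs 1))
      rw [hcjz _ hz1, Finset.sum_congr rfl (fun v _ => by
        rw [show β (s 1) (s v) = 1 from hβz _ ((QuotientGroup.eq_one_iff _).1 (hs 1)) _, inv_one]),
        Finset.sum_const, Finset.card_univ, nsmul_one, ← Nat.card_eq_fintype_card, smul_smul,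
        inv_mul_cancel₀ hN, one_smul]
    · intro a _ ha
      rw [hsum0 a ha, zero_smul]
    · simp
  have hPP : ∀ w v T, P w (P v T) = if w = v then P v T else 0 := by
    intro w v T
    conv_lhs => rw [hP]
    simp only [hcov, smul_smul, ← Finset.sum_smul]
    have e : ∀ a : Q ⧸ center Q, (β (s a) (s w))⁻¹ * β (s a) (s v) = β (s a) (s (w⁻¹ * v)) := by
      intro a
      have h1 : ((w⁻¹ * v : Q ⧸ center Q)) = (((s w)⁻¹ * s v : Q) : Q ⧸ center Q) := by
        rw [QuotientGroup.mk_mul, QuotientGroup.mk_inv, hs, hs]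
      rw [h1, hβr, hβmul']
      congr 1
      refine (eq_inv_of_mul_eq_one_left ?_).symm
      have h2 := hβmul' (s a) (s w)⁻¹ (s w)
      rw [inv_mul_cancel] at h2
      rw [← h2]
      exact (hβiff (s a) 1).2 (by simp)
    simp only [e]
    by_cases h : w = v
    · rw [if_pos h, h, inv_mul_cancel]
      rw [Finset.sum_congr rfl (fun a _ => show β (s a) (s 1) = 1 by
        have := hβswap (s 1) (s a)
        rwa [hβz _ ((QuotientGroup.eq_one_iff _).1 (hs 1)), one_mul] at this),
        Finset.sum_const, Finset.card_univ, nsmul_one, ← Nat.card_eq_fintype_card,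
        inv_mul_cancel₀ hN, one_smul]
    · rw [if_neg h, hsum0' _ (fun h' => h (inv_mul_eq_one.1 h')), mul_zero, zero_smul]
  have htw : ∀ v U, P v (ρ (s v : G) * U) = ρ (s v : G) * P 1 U := by
    intro v U
    rw [hP, hP, mul_smul_comm, Finset.mul_sum]
    congr 1
    refine Finset.sum_congr rfl fun a _ => ?_
    have h1 : β (s a) (s 1) = 1 := by
      have := hβswap (s 1) (s a)
      rwa [hβz _ ((QuotientGroup.eq_one_iff _).1 (hs 1)), one_mul] at this
    rw [h1, inv_one, one_smul, hcj, hcj, ← mul_assoc (ρ (s a : G)), hβ (s a) (s v)]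
    simp only [smul_mul_assoc, smul_smul, inv_mul_cancel₀ (hβne _ _), one_smul, mul_assoc]
  have hdim : ∀ v, Module.finrank K (LinearMap.range (P v)) = Module.finrank K (LinearMap.range (P 1)) := by
    intro v
    have e : LinearMap.range (P v) = (LinearMap.range (P 1)).map (LinearMap.mulLeft K (ρ (s v : G))) := by
      apply le_antisymm
      · rintro _ ⟨T, rfl⟩
        refine ⟨P 1 (ρ (s v : G)⁻¹ * T), ⟨_, rfl⟩, ?_⟩
        show ρ (s v : G) * P 1 (ρ (s v : G)⁻¹ * T) = P v T
        rw [← htw, ← mul_assoc, hinv, one_mul]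
      · rintro _ ⟨_, ⟨U, rfl⟩, rfl⟩
        exact ⟨_, htw v U⟩
    rw [e]
    refine (Submodule.equivMapOfInjective _ (fun T U h => ?_) _).finrank_eq.symm
    have := congrArg (ρ (s v : G)⁻¹ * ·) h
    simpa only [LinearMap.mulLeft_apply, ← mul_assoc, hinv', one_mul] using this
  set e₁ := Module.finrank K (LinearMap.range (P 1)) with he₁
  have htotal : Nat.card (Q ⧸ center Q) * e₁ = Module.finrank K V * Module.finrank K V := by
    let f : Module.End K V →ₗ[K] ((v : Q ⧸ center Q) → LinearMap.range (P v)) :=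
      LinearMap.pi fun v => (P v).rangeRestrict
    have hf : Function.Bijective f := by
      constructor
      · intro T U h
        rw [← hdec T, ← hdec U]
        exact Finset.sum_congr rfl fun v _ => congrArg Subtype.val (congrFun h v)
      · intro y
        refine ⟨∑ v, (y v : Module.End K V), funext fun w => Subtype.ext ?_⟩
        show P w (∑ v, (y v : Module.End K V)) = y w
        rw [map_sum, Finset.sum_eq_single w]
        · obtain ⟨U, hU⟩ := (y w).2
          rw [← hU, hPP, if_pos rfl]
        · intro v _ hv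
          obtain ⟨U, hU⟩ := (y v).2
          rw [← hU, hPP, if_neg (Ne.symm hv)]
        · simp
    have h1 := (LinearEquiv.ofBijective f hf).finrank_eq
    rw [Module.finrank_linearMap, Module.finrank_pi_fintype] at h1
    rw [h1, Finset.sum_congr rfl (fun v _ => hdim v), Finset.sum_const, Finset.card_univ,
      smul_eq_mul, ← Nat.card_eq_fintype_card]
  -- the commutant of `x`
  let CA : Submodule K (Module.End K V) :=
    LinearMap.ker (LinearMap.mulLeft K (ρ x) - LinearMap.mulRight K (ρ x))
  have hupper : Module.finrank K CA ≤ R.card * e₁ := by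
    let f : CA →ₗ[K] ((r : R) → LinearMap.range (P r)) :=
      LinearMap.pi fun r => (P r).rangeRestrict.comp CA.subtype
    have hinj : Function.Injective f := by
      rw [← LinearMap.ker_eq_bot, Submodule.eq_bot_iff]
      rintro ⟨T, hT⟩ h
      have hT' : ρ x * T = T * ρ x := sub_eq_zero.1 hT
      have hx' : ∀ v, cj x (P v T) = P (conjBar Q x v) T := by
        intro v
        rw [hP, hP, map_smul, map_sum]
        congr 1
        conv_rhs => rw [← Equiv.sum_comp (conjBar Q x).toEquiv]
        refine Finset.sum_congr rfl fun a _ => ?_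
        rw [map_smul]
        let a' : Q := MulAut.conjNormal x (s a)
        let v' : Q := MulAut.conjNormal x (s v)
        have ha : (conjBar Q x).toEquiv a = (a' : Q ⧸ center Q) := by
          show conjBar Q x a = _
          conv_lhs => rw [← hs a]
          rfl
        have hv : conjBar Q x v = (v' : Q ⧸ center Q) := by
          conv_lhs => rw [← hs v]
          rfl
        have hβx : β a' v' = β (s a) (s v) := by
          refine hcancel ((v' : G) * a') ?_
          rw [map_mul, ← hβ a' v']
          simp only [a', v', MulAut.conjNormal_apply, map_mul]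
          calc ρ x * ρ (s a : G) * ρ x⁻¹ * (ρ x * ρ (s v : G) * ρ x⁻¹)
              = ρ x * (ρ (s a : G) * (ρ x⁻¹ * ρ x) * ρ (s v : G)) * ρ x⁻¹ := by simp only [mul_assoc]
            _ = ρ x * (ρ (s a : G) * ρ (s v : G)) * ρ x⁻¹ := by rw [hinv', mul_one]
            _ = β (s a) (s v) • (ρ x * (ρ (s v : G) * ρ (s a : G)) * ρ x⁻¹) := by
                rw [hβ, mul_smul_comm, smul_mul_assoc]
            _ = β (s a) (s v) • (ρ x * (ρ (s v : G) * (ρ x⁻¹ * ρ x) * ρ (s a : G)) * ρ x⁻¹) := by
                rw [hinv', mul_one]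
            _ = _ := by simp only [mul_assoc]
        rw [ha, hv, hβl, hβr, hcjs, hβx]
        congr 1
        rw [show (a' : G) = x * (s a : G) * x⁻¹ from MulAut.conjNormal_apply x (s a), hcjmul, hcjmul]
        congr 2
        rw [hcj, inv_inv, mul_assoc, ← hT', ← mul_assoc, hinv', one_mul]
      have hstep : ∀ (i : ℕ) v, P ((conjBar Q x ^ i) v) T = 0 → P v T = 0 := by
        intro i
        induction i with
        | zero => intro v hv; exact hv
        | succ i ih =>
          intro v hv
          rw [pow_succ, MulAut.mul_apply] at hv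
          have h1 := ih _ hv
          rw [← hx'] at h1
          have h2 := congrArg (cj x⁻¹) h1
          rwa [← hcjmul, inv_mul_cancel, map_zero, hcjz 1 (one_mem _)] at h2
      refine Subtype.ext ?_
      show T = 0
      rw [← hdec T]
      refine Finset.sum_eq_zero fun v _ => ?_
      obtain ⟨i, hi⟩ := hR v
      exact hstep i v (congrArg Subtype.val (congrFun (LinearMap.mem_ker.1 h) ⟨_, hi⟩))
    have h1 := LinearMap.finrank_le_finrank_of_injective hinj
    rw [Module.finrank_pi_fintype, Finset.sum_congr rfl (fun (r : R) _ => hdim r.1), Finset.sum_const,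
      Finset.card_univ, Fintype.card_coe, smul_eq_mul] at h1
    exact h1
  -- the lower bound
  set D : Module.End K V := ρ x - 1 with hD
  set C := LinearMap.ker D
  set M := LinearMap.range D
  have hdn : C ≠ ⊤ := fun h => hx1 (hfaith (by
    rw [map_one]
    exact sub_eq_zero.1 (LinearMap.ker_eq_top.1 h)))
  let g : (V ⧸ M →ₗ[K] C) →ₗ[K] Module.End K V :=
    (LinearMap.llcomp K V C V C.subtype).comp (LinearMap.lcomp K C M.mkQ)
  have hg : ∀ f v, g f v = (f (Submodule.Quotient.mk v) : V) := fun f v => rfl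
  have hgle : LinearMap.range g ≤ CA := by
    rintro _ ⟨f, rfl⟩
    refine LinearMap.mem_ker.2 (sub_eq_zero.2 (LinearMap.ext fun v => ?_))
    show ρ x (g f v) = g f (ρ x v)
    have h1 : ρ x (g f v) = g f v := by
      have h2 : D (g f v) = 0 := LinearMap.mem_ker.1 (f (Submodule.Quotient.mk v)).2
      exact sub_eq_zero.1 h2
    rw [h1, hg, hg]
    have h2 : (Submodule.Quotient.mk (ρ x v) : V ⧸ M) = Submodule.Quotient.mk v :=
      (Submodule.Quotient.eq M).2 ⟨v, rfl⟩
    rw [h2]
  have hid : (1 : Module.End K V) ∉ LinearMap.range g := by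
    rintro ⟨f, hf⟩
    refine hdn (eq_top_iff.2 fun v _ => ?_)
    have : g f v = v := LinearMap.congr_fun hf v
    rw [← this, hg]
    exact (f _).2
  have hid' : (1 : Module.End K V) ∈ CA := LinearMap.mem_ker.2 (by simp)
  have hlt : Module.finrank K (LinearMap.range g) < Module.finrank K CA :=
    Submodule.finrank_lt_finrank_of_lt (lt_of_le_of_ne hgle fun h => hid (h ▸ hid'))
  have hginj : Function.Injective g := by
    intro f f' h
    refine LinearMap.ext fun q => Subtype.ext ?_
    induction q using Submodule.Quotient.induction_on with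
    | _ v => exact LinearMap.congr_fun h v
  rw [LinearMap.finrank_range_of_inj hginj, Module.finrank_linearMap] at hlt
  have hd : Module.finrank K (V ⧸ M) = Module.finrank K C := by
    have h1 := M.finrank_quotient_add_finrank
    have h2 : Module.finrank K M + Module.finrank K C = Module.finrank K V :=
      D.finrank_range_add_finrank_ker
    omega
  rw [hd] at hlt
  set d := Module.finrank K C
  set n := Module.finrank K V
  have h5 : 4 * (d * d) < n * n := by
    calc 4 * (d * d) < 4 * Module.finrank K CA := Nat.mul_lt_mul_of_pos_left hlt (by norm_num)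
      _ ≤ 4 * R.card * e₁ := by rw [mul_assoc]; exact Nat.mul_le_mul_left _ hupper
      _ ≤ Nat.card (Q ⧸ center Q) * e₁ := Nat.mul_le_mul_right _ h4
      _ = n * n := htotal
  by_contra hcon
  push Not at hcon
  have := Nat.mul_le_mul hcon hcon
  nlinarith

end CfsgLib.Core.FixedHalf
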