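import Mathlib
import Cfsg.Agent.Lib.Core.FixedHalf.Perm
import Cfsg.Agent.Lib.Core.FixedHalf.Symplectic

/-!
# Few orbits of an element of prime order at least five on a symplectic chief factor

* `exists_few_reps`: at most a quarter as many orbits as elements on `Q / Z(Q)`
-/

set_option autoImplicit false
set_option linter.all false

namespace CfsgLib.Core.FixedHalf

open Subgroup
open scoped commutatorElement

universe u

variable {G : Type u} [Group G] [Finite G]

theorem eq_five_arith {p i : ℕ} (hp : p.Prime) (hp5 : 5 ≤ p) {q j : ℕ} (hq : q.Prime)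
    (hi : i = q ^ j) (hj : 2 ≤ j) (h : q = p ∨ i % p = 1) :
    4 * (p - 1) + 4 * i ≤ p * i := by
  have hi4 : 4 ≤ i := by
    rw [hi]
    calc 4 = 2 ^ 2 := rfl
      _ ≤ q ^ 2 := Nat.pow_le_pow_left hq.two_le 2
      _ ≤ q ^ j := Nat.pow_le_pow_right hq.pos hj
  obtain ⟨m, rfl⟩ : ∃ m, p = m + 5 := ⟨p - 5, by omega⟩
  rw [show m + 5 - 1 = m + 4 by omega]
  rcases h with h | h
  · have : (m + 5) ^ 2 ≤ i := by
      rw [hi, h]; exact Nat.pow_le_pow_right (by omega) hj
    nlinarith
  · have hlt : m + 5 < i := by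
      rcases Nat.lt_or_ge (m + 5) i with h1 | h1
      · exact h1
      · exfalso
        rcases Nat.lt_or_ge i (m + 5) with h2 | h2
        · rw [Nat.mod_eq_of_lt h2] at h; omega
        · rw [le_antisymm h1 h2, Nat.mod_self] at h; omega
    rcases Nat.eq_zero_or_pos m with rfl | hm
    · -- `i` is a prime power congruent to one modulo five
      by_contra hcon
      have hi16 : i < 16 := by omega
      have hi' : i = 6 ∨ i = 11 := by omega
      rcases hi' with h6 | h11
      · rw [h6] at hi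
        have hd : q ^ 2 ∣ 6 := hi ▸ pow_dvd_pow q hj
        have hle := Nat.le_of_dvd (by norm_num) hd
        have hq2 : q = 2 := by have := hq.two_le; nlinarith
        subst hq2
        norm_num at hd
      · rw [h11] at hi
        have hq2 : q ∣ 11 := hi ▸ dvd_pow_self q (by omega)
        rcases (Nat.dvd_prime (by norm_num)).1 hq2 with h1 | h1
        · exact hq.one_lt.ne' h1
        · subst h1
          have : 11 ^ 2 ≤ 11 ^ j := Nat.pow_le_pow_right (by norm_num) hj
          omega
    · have : 2 ≤ m := by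
        by_contra h2
        rw [show m = 1 by omega] at hp
        norm_num at hp
      nlinarith

theorem exists_few_reps {p : ℕ} (hp : p.Prime) (hp5 : 5 ≤ p) {x : G} (hxp : x ^ p = 1)
    (Q : Subgroup G) [Q.Normal] (hcom : ∀ a ∈ Q, ∀ b ∈ Q, ⁅a, b⁆ ∈ center G)
    {q : ℕ} (hq : q.Prime) (hexp : ∀ a ∈ Q, a ^ q ∈ center G)
    (hne : ∃ a : Q ⧸ center Q, conjBar Q x a ≠ a)
    (hquad : q = p → ∃ a : Q ⧸ center Q,
      conjBar Q x (conjBar Q x a / a) ≠ conjBar Q x a / a) :
    ∃ R : Finset (Q ⧸ center Q), (∀ v, ∃ i : ℕ, (conjBar Q x ^ i) v ∈ R) ∧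
      4 * R.card ≤ Nat.card (Q ⧸ center Q) := by
  classical
  haveI := Fact.mk hp
  haveI := Fact.mk hq
  haveI : Fintype (Q ⧸ center Q) := Fintype.ofFinite _
  set σ := conjBar Q x with hσdef
  have hcen' : ∀ a : Q, (a : G) ∈ center G → a ∈ center Q := fun a ha =>
    mem_center_iff.2 fun b => Subtype.ext (mem_center_iff.1 ha b)
  letI : CommGroup (Q ⧸ center Q) :=
    { (inferInstance : Group (Q ⧸ center Q)) with
      mul_comm := fun a b => by
        induction a using QuotientGroup.induction_on with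
        | H a =>
          induction b using QuotientGroup.induction_on with
          | H b =>
            rw [← QuotientGroup.mk_mul, ← QuotientGroup.mk_mul, QuotientGroup.eq]
            refine hcen' _ ?_
            have e : (((a * b)⁻¹ * (b * a) : Q) : G) = ⁅(b : G)⁻¹, (a : G)⁻¹⁆ := by
              simp only [coe_mul, coe_inv, commutatorElement_def]; group
            rw [e]
            exact hcom _ (Q.inv_mem b.2) _ (Q.inv_mem a.2) }
  have hexpb : ∀ a : Q ⧸ center Q, a ^ q = 1 := by
    intro a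
    induction a using QuotientGroup.induction_on with
    | H a =>
      rw [← QuotientGroup.mk_pow, QuotientGroup.eq_one_iff]
      exact hcen' _ (by rw [coe_pow]; exact hexp a a.2)
  have hgp : IsPGroup q (Q ⧸ center Q) := fun a => ⟨1, by rw [pow_one]; exact hexpb a⟩
  let δ : (Q ⧸ center Q) →* (Q ⧸ center Q) := σ.toMonoidHom / MonoidHom.id _
  have hδ : ∀ a, δ a = σ a / a := fun a => rfl
  set Fx := δ.ker with hFx
  have hmemFx : ∀ a, a ∈ Fx ↔ σ a = a := fun a => by
    rw [hFx, MonoidHom.mem_ker, hδ, div_eq_one]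
  have hxσ : σ ^ p = 1 := MulEquiv.ext fun a => by
    rw [hσdef, conjBar_pow, hxp]
    induction a using QuotientGroup.induction_on with
    | H a => rw [conjBar_mk, map_one]; rfl
  let π : Equiv.Perm (Q ⧸ center Q) := σ.toEquiv
  have hπ : ∀ (i : ℕ) a, (π ^ i) a = (σ ^ i) a := by
    intro i
    induction i with
    | zero => intro a; rfl
    | succ i ih => intro a; rw [pow_succ', Equiv.Perm.mul_apply, ih, pow_succ']; rfl
  have hπp : π ^ p = 1 := Equiv.ext fun a => by rw [hπ, hxσ]; rfl
  obtain ⟨R, hR, hRb⟩ := orbit_reps_bound hp π hπp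
  refine ⟨R, fun v => ?_, ?_⟩
  · obtain ⟨i, hi⟩ := hR v
    exact ⟨i, by rw [← hπ]; exact hi⟩
  set F := Nat.card Fx with hF
  set i := Nat.card δ.range with hi
  have hN : Nat.card (Q ⧸ center Q) = F * i := by
    rw [Subgroup.card_eq_card_quotient_mul_card_subgroup Fx, mul_comm, hi,
      Nat.card_congr (QuotientGroup.quotientKerEquivRange δ).toEquiv]
  have hFcard : Nat.card {a // π a = a} = F := Nat.card_congr
    (Equiv.subtypeEquivRight fun a => (hmemFx a).symm)
  obtain ⟨j, hj⟩ := IsPGroup.iff_card.1 (hgp.to_subgroup δ.range)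
  have hi1 : i ≠ 1 := by
    intro h
    obtain ⟨a, ha⟩ := hne
    have : δ.range = ⊥ := Subgroup.eq_bot_of_card_eq _ h
    refine ha ?_
    rw [← div_eq_one, ← hδ, ← mem_bot, ← this]
    exact ⟨a, rfl⟩
  have hmod : q = p ∨ i % p = 1 := by
    by_cases hqp : q = p
    · exact Or.inl hqp
    right
    obtain ⟨f, hf⟩ := IsPGroup.iff_card.1 (hgp.to_subgroup Fx)
    have h1 := Equiv.Perm.card_fixedPoints_modEq (p := p) (n := 1) (f := (π : Q ⧸ center Q → Q ⧸ center Q))
      (by
        let φ : Function.End (Q ⧸ center Q) := fun a => π a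
        have hk : ∀ (k : ℕ) a, (φ ^ k) a = (π ^ k) a := by
          intro k
          induction k with
          | zero => intro a; rfl
          | succ k ih => intro a; rw [pow_succ', pow_succ', Equiv.Perm.mul_apply, ← ih]; rfl
        rw [pow_one]; funext a
        exact (hk p a).trans (by rw [hπp]; rfl))
    have h2 : Fintype.card (Function.fixedPoints (π : Q ⧸ center Q → Q ⧸ center Q)) = F := by
      rw [← Nat.card_eq_fintype_card, ← hFcard]
      exact Nat.card_congr (Equiv.subtypeEquivRight fun a => Iff.rfl)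
    rw [h2, ← Nat.card_eq_fintype_card, hN] at h1
    have h3 : 1 ≡ i [MOD p] := by
      refine Nat.ModEq.cancel_left_of_coprime (c := F) ?_ (by
        rw [mul_one]
        exact h1.symm)
      rw [hF, hf]
      exact (((Nat.coprime_primes hq hp).2 hqp).pow_left f).symm
    rw [← h3, Nat.one_mod_eq_one.2 hp.ne_one]
  -- the image has more than `q` elements
  have hj2 : 2 ≤ j := by
    rcases Nat.lt_or_ge j 2 with hj' | hj'
    swap
    · exact hj'
    exfalso
    rcases j with _ | _ | j
    · exact hi1 (by rw [hi, hj, pow_zero])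
    swap
    · omega
    rw [zero_add, pow_one] at hj
    -- `D` is fixed or meets the fixed points trivially
    have hquad' : ∀ hall : (∀ d ∈ δ.range, σ d = d), False := by
      intro hall
      by_cases hqp : q = p
      · obtain ⟨a, ha⟩ := hquad hqp
        exact ha (hall _ ⟨a, rfl⟩)
      obtain ⟨a, ha⟩ := hne
      refine ha ?_
      have hpow : ∀ k : ℕ, (σ ^ k) a = a * (δ a) ^ k := by
        intro k
        induction k with
        | zero => rw [pow_zero, pow_zero, mul_one]; rfl
        | succ k ih =>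
          rw [pow_succ' σ, MulAut.mul_apply, ih, map_mul, map_pow, hall _ ⟨a, rfl⟩,
            show σ a = a * δ a by rw [hδ, mul_div_cancel], pow_succ' (δ a), mul_assoc]
      have h1 : δ a ^ p = 1 := by
        have := hpow p
        rw [hxσ] at this
        exact (mul_eq_left.1 this.symm)
      have h2 : δ a = 1 := by
        have h3 := pow_gcd_eq_one.2 ⟨h1, hexpb (δ a)⟩
        rwa [Nat.Coprime.gcd_eq_one ((Nat.coprime_primes hp hq).2 (Ne.symm hqp)), pow_one] at h3
      rwa [hδ, div_eq_one] at h2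
    haveI : Fact (Nat.card δ.range).Prime := ⟨by rw [hj]; exact hq⟩
    rcases (Fx.subgroupOf δ.range).eq_bot_or_eq_top_of_prime_card with hbot | htop
    swap
    · exact hquad' fun d hd => (hmemFx d).1 (mem_subgroupOf.1 (htop.ge (mem_top ⟨d, hd⟩)))
    -- `D` is central in `Q`
    have hinf : Fx ⊓ δ.range = ⊥ := by
      rw [eq_bot_iff]
      rintro d ⟨h1, h2⟩
      have : (⟨d, h2⟩ : δ.range) ∈ Fx.subgroupOf δ.range := mem_subgroupOf.2 h1
      rw [hbot, mem_bot] at this
      exact mem_bot.2 (congrArg Subtype.val this)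
    have hsup : Fx ⊔ δ.range = ⊤ := by
      refine Subgroup.eq_top_of_card_eq _ ?_
      have h1 := CfsgLib.Core.card_sup_mul_card_inf Fx δ.range (by
        intro a _; rw [mem_normalizer_iff]; intro b; rw [mul_comm a b, mul_inv_cancel_right])
      rw [hinf, card_bot, mul_one] at h1
      rw [h1, hN]
    obtain ⟨d, hd, hd1⟩ : ∃ d ∈ δ.range, d ≠ 1 := by
      obtain ⟨a, ha⟩ := hne
      exact ⟨δ a, ⟨a, rfl⟩, fun h => ha (div_eq_one.1 (by rw [← hδ]; exact h))⟩
    obtain ⟨dd, rfl⟩ := QuotientGroup.mk_surjective d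
    obtain ⟨b, hb⟩ := hd
    obtain ⟨bb, rfl⟩ := QuotientGroup.mk_surjective b
    set bx : Q := MulAut.conjNormal x bb with hbx
    have hbxG : (bx : G) = x * bb * x⁻¹ := MulAut.conjNormal_apply x bb
    have hdz : ∃ z ∈ center Q, dd = bx * bb⁻¹ * z := by
      refine ⟨(bx * bb⁻¹)⁻¹ * dd, QuotientGroup.eq.1 ?_, by rw [mul_inv_cancel_left]⟩
      rw [← hb, hδ, div_eq_mul_inv, ← QuotientGroup.mk_inv, hσdef, conjBar_mk,
        QuotientGroup.mk_mul, QuotientGroup.mk_inv]
    refine hd1 ((QuotientGroup.eq_one_iff dd).2 ?_)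
    -- commuting with the fixed part
    have hfix : ∀ c : Q, σ (c : Q ⧸ center Q) = c → ⁅(dd : G), (c : G)⁆ = 1 := by
      intro c hc
      obtain ⟨z, hz, rfl⟩ := hdz
      set cx : Q := MulAut.conjNormal x c with hcx
      have hcxG : (cx : G) = x * c * x⁻¹ := MulAut.conjNormal_apply x c
      have hw : cx⁻¹ * c ∈ center Q := by
        refine QuotientGroup.eq.1 ?_
        rw [← hc, hσdef, conjBar_mk]
      have hzc : ∀ y : Q, (z : G) * y = y * z := fun y =>
        (congrArg Subtype.val (mem_center_iff.1 hz y)).symm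
      have hwc : ∀ y : Q, ((cx⁻¹ * c : Q) : G) * y = y * (cx⁻¹ * c : Q) := fun y =>
        (congrArg Subtype.val (mem_center_iff.1 hw y)).symm
      -- the commutators
      have h1 : ⁅(bx : G), (c : G)⁆ = ⁅(bb : G), (c : G)⁆ := by
        have e1 : ⁅(bx : G), (c : G)⁆ = ⁅(bx : G), (cx : G)⁆ *
            ((cx : G) * ⁅(bx : G), ((cx⁻¹ * c : Q) : G)⁆ * (cx : G)⁻¹) := by
          simp only [coe_mul, coe_inv, commutatorElement_def]; group
        rw [e1, commutatorElement_eq_one_iff_mul_comm.2 (hwc bx).symm, mul_one, mul_inv_cancel,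
          mul_one, hbxG, hcxG,
          show ⁅x * (bb : G) * x⁻¹, x * (c : G) * x⁻¹⁆ = x * ⁅(bb : G), (c : G)⁆ * x⁻¹ by
            simp only [commutatorElement_def]; group,
          mem_center_iff.1 (hcom _ bb.2 _ c.2) x, mul_inv_cancel_right]
      have h2 : ⁅((bx * bb⁻¹ * z : Q) : G), (c : G)⁆ =
          ⁅(bx : G), (c : G)⁆ * ⁅(bb : G), (c : G)⁆⁻¹ := by
        have e2 : ⁅((bx * bb⁻¹ * z : Q) : G), (c : G)⁆ = (bx * (bb : G)⁻¹) * ⁅(z : G), (c : G)⁆ *
            (bx * (bb : G)⁻¹)⁻¹ * ((bx : G) * (bb : G)⁻¹ * ⁅(bb : G), (c : G)⁆⁻¹ * bb * (bx : G)⁻¹ *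
              ⁅(bx : G), (c : G)⁆) := by
          simp only [coe_mul, coe_inv, commutatorElement_def]; group
        have hk := mem_center_iff.1 (Subgroup.inv_mem _ (hcom _ bb.2 _ c.2))
        rw [e2, commutatorElement_eq_one_iff_mul_comm.2 (hzc c), mul_one, mul_inv_cancel, one_mul,
          hk ((bx : G) * (bb : G)⁻¹)]
        have e3 : ⁅(bb : G), (c : G)⁆⁻¹ * ((bx : G) * (bb : G)⁻¹) * bb * (bx : G)⁻¹ =
            ⁅(bb : G), (c : G)⁆⁻¹ := by group
        rw [e3, ← hk]
      rw [h2, h1, mul_inv_cancel]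
    have hcyc : ∀ e : Q ⧸ center Q, e ∈ δ.range → ∃ k : ℕ, e = (dd : Q ⧸ center Q) ^ k := by
      intro e he
      haveI : Fact (Nat.card δ.range).Prime := ⟨by rw [hj]; exact hq⟩
      have := mem_powers_of_prime_card (G := δ.range) rfl (g := ⟨(dd : Q ⧸ center Q), ⟨_, hb⟩⟩)
        (g' := ⟨e, he⟩) (fun h => hd1 (congrArg Subtype.val h))
      obtain ⟨k, hk⟩ := this
      exact ⟨k, (congrArg Subtype.val hk).symm⟩
    refine mem_center_iff.2 fun a => Subtype.ext ?_
    obtain ⟨f, hf, e, he, hfe⟩ := Subgroup.mem_sup.1 (hsup.ge (mem_top (a : Q ⧸ center Q)))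
    obtain ⟨ff, rfl⟩ := QuotientGroup.mk_surjective f
    obtain ⟨k, rfl⟩ := hcyc e he
    rw [← QuotientGroup.mk_pow, ← QuotientGroup.mk_mul, QuotientGroup.eq] at hfe
    have h1 : (dd : G) * ff = ff * dd :=
      commutatorElement_eq_one_iff_mul_comm.1 (hfix ff ((hmemFx _).1 hf))
    have h2 : (dd : G) * (dd : G) ^ k = (dd : G) ^ k * dd := ((Commute.refl (dd : G)).pow_right k).eq
    have h3 : (dd : G) * ((ff * dd ^ k)⁻¹ * a : Q) = ((ff * dd ^ k)⁻¹ * a : Q) * dd :=
      congrArg Subtype.val (mem_center_iff.1 hfe dd)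
    have ea : (a : G) = (ff : G) * (dd : G) ^ k * ((ff * dd ^ k)⁻¹ * a : Q) := by
      simp only [coe_mul, coe_inv, coe_pow]; group
    show (a : G) * dd = dd * a
    rw [ea, mul_assoc, ← h3, ← mul_assoc, mul_assoc (ff : G), ← h2, ← mul_assoc, ← h1]
    simp only [mul_assoc]
  have harith := eq_five_arith hp hp5 hq (show i = q ^ j by rw [hi, hj]) hj2 hmod
  rw [hFcard, hN] at hRb
  rw [hN]
  have h4 : p * (4 * R.card) ≤ p * (F * i) := by
    calc p * (4 * R.card) = 4 * (p * R.card) := by ring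
      _ ≤ 4 * ((p - 1) * F + F * i) := Nat.mul_le_mul_left _ hRb
      _ = F * (4 * (p - 1) + 4 * i) := by ring
      _ ≤ F * (p * i) := Nat.mul_le_mul_left _ harith
      _ = p * (F * i) := by ring
  exact Nat.le_of_mul_le_mul_left h4 hp.pos

end CfsgLib.Core.FixedHalf
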