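import Mathlib
import Cfsg.Agent.Lib.Core.FixedHalf.Abelian
import Cfsg.Agent.Lib.Core.FixedHalf.Reps
import Cfsg.Agent.Lib.Core.HHCritical.TheoremBLinear
import Cfsg.Agent.Lib.Core.PLengthTwoMaximal

/-!
# The fixed space of a generator of prime order at least five is less than half

* `two_mul_fixed_lt`: a solvable group generated by the conjugates of an element `x` of prime order
  `p ≥ 5` and acting faithfully and irreducibly has `2 dim C_V(x) < dim V`
-/

set_option autoImplicit false
set_option linter.all false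

namespace CfsgLib.Core.FixedHalf

open Subgroup
open scoped commutatorElement

universe u

/-- No quadratic action on an irreducible module. -/
theorem exists_not_quad {G : Type u} [Group G] [Finite G] [Group.IsSolvable G] {p : ℕ}
    [hp : Fact p.Prime] (hp5 : 5 ≤ p) {M : Type u} [CommGroup M] [Finite M]
    (hM : ∀ a : M, a ^ p = 1) (ψ : G →* MulAut M)
    (hirr : ∀ S : Subgroup M, (∀ g, ∀ a ∈ S, ψ g a ∈ S) → S = ⊥ ∨ S = ⊤) {x : G} (hxp : x ^ p = 1)
    (hx : ∃ a, ψ x a ≠ a) : ∃ a, ψ x (ψ x a / a) ≠ ψ x a / a := by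
  classical
  by_contra hquad
  push Not at hquad
  obtain ⟨a₀, ha₀⟩ := hx
  haveI : Nontrivial M := ⟨⟨_, _, ha₀⟩⟩
  haveI : Module (ZMod p) (Additive M) := AddCommGroup.zmodModule fun a =>
    Additive.toMul.injective (by rw [toMul_nsmul, hM]; rfl)
  haveI : Nontrivial (Additive M) := inferInstanceAs (Nontrivial M)
  let Φ : G →* (Additive M ≃ₗ[ZMod p] Additive M) :=
    { toFun := fun g =>
        let f : Additive M ≃+ Additive M := MulEquiv.toAdditive (ψ g)
        { AddMonoidHom.toZModLinearMap p f.toAddMonoidHom with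
          invFun := f.symm
          left_inv := f.left_inv
          right_inv := f.right_inv }
      map_one' := LinearEquiv.ext fun a => by
        show Additive.ofMul (ψ 1 (Additive.toMul a)) = a
        rw [map_one]; rfl
      map_mul' := fun g h => LinearEquiv.ext fun a => by
        show Additive.ofMul (ψ (g * h) (Additive.toMul a)) = _
        rw [map_mul]; rfl }
  have hΦ : ∀ g a, Φ g (Additive.ofMul a) = Additive.ofMul (ψ g a) := fun g a => rfl
  haveI : Finite Φ.range := Finite.of_surjective _ Φ.rangeRestrict_surjective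
  have hOp : Cfsg.pCore p Φ.range = ⊥ := by
    set O := Cfsg.pCore p Φ.range with hO
    have hOp : IsPGroup p O := CfsgLib.Core.isPGroup_pCore p _
    letI : MulAction O M :=
      { smul := fun o a => Additive.toMul (((o : Φ.range) : Additive M ≃ₗ[ZMod p] Additive M)
          (Additive.ofMul a))
        one_smul := fun a => rfl
        mul_smul := fun o o' a => rfl }
    have hsm : ∀ (o : O) (a : M), Additive.ofMul (o • a) =
        ((o : Φ.range) : Additive M ≃ₗ[ZMod p] Additive M) (Additive.ofMul a) := fun o a => rfl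
    let S : Subgroup M :=
      { carrier := {a | ∀ o : O, o • a = a}
        one_mem' := fun o => Additive.ofMul.injective (by rw [hsm, ofMul_one, map_zero])
        mul_mem' := fun {a b} ha hb o => Additive.ofMul.injective (by
          rw [hsm, ofMul_mul, map_add, ← hsm, ← hsm, ha o, hb o])
        inv_mem' := fun {a} ha o => Additive.ofMul.injective (by
          rw [hsm, ofMul_inv, map_neg, ← hsm, ha o]) }
    have hSne : S ≠ ⊥ := by
      have hd : p ∣ Nat.card M := by
        obtain ⟨k, hk⟩ := IsPGroup.iff_card.1 (show IsPGroup p M from fun a => ⟨1, by rw [pow_one, hM]⟩)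
        rcases k with _ | k
        · have := Finite.one_lt_card (α := M); rw [hk, pow_zero] at this; omega
        · rw [hk]; exact dvd_pow_self p k.succ_ne_zero
      obtain ⟨b, hb, hb1⟩ := hOp.exists_fixed_point_of_prime_dvd_card_of_fixed_point M hd
        (a := (1 : M)) (fun o => Additive.ofMul.injective (by rw [hsm, ofMul_one, map_zero]))
      intro h
      have : b ∈ S := hb
      rw [h, mem_bot] at this
      exact hb1 this.symm
    have hSinv : ∀ g, ∀ a ∈ S, ψ g a ∈ S := by
      intro g a ha o
      apply Additive.ofMul.injective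
      rw [hsm, ← hΦ]
      let g' : Φ.range := ⟨Φ g, g, rfl⟩
      have ho' : g'⁻¹ * (o : Φ.range) * g' ∈ O := by
        have := (inferInstance : O.Normal).conj_mem _ o.2 g'⁻¹
        rwa [inv_inv] at this
      have h1 : (o : Φ.range) * g' = g' * (g'⁻¹ * (o : Φ.range) * g') := by group
      calc ((o : Φ.range) : Additive M ≃ₗ[ZMod p] Additive M) (Φ g (Additive.ofMul a))
          = (((o : Φ.range) * g' : Φ.range) : Additive M ≃ₗ[ZMod p] Additive M) (Additive.ofMul a) := rfl
        _ = Φ g (((g'⁻¹ * (o : Φ.range) * g' : Φ.range) : Additive M ≃ₗ[ZMod p] Additive M)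
              (Additive.ofMul a)) := by rw [h1]; rfl
        _ = Φ g (Additive.ofMul a) := congrArg (Φ g) (congrArg Additive.ofMul (ha ⟨_, ho'⟩))
    have hST := (hirr S hSinv).resolve_left hSne
    refine (Subgroup.eq_bot_iff_forall _).2 fun o ho => Subtype.ext (LinearEquiv.ext fun a => ?_)
    exact congrArg Additive.ofMul (((hST.ge (mem_top (Additive.toMul a))) : _) ⟨o, ho⟩)
  have hsol : Cfsg.IsPSolvable p Φ.range :=
    CfsgLib.Core.isPSolvable_of_isSolvable (Group.isSolvable_of_surjective Φ.rangeRestrict_surjective)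
  have hord : orderOf (Φ x) = p := by
    refine orderOf_eq_prime (by rw [← map_pow, hxp, map_one]) fun h => ha₀ ?_
    have := LinearEquiv.congr_fun h (Additive.ofMul a₀)
    rw [hΦ] at this
    exact Additive.ofMul.injective this
  haveI : Module.Finite (ZMod p) (Additive M) := inferInstance
  set X : Module.End (ZMod p) (Additive M) := ((Φ x : Additive M ≃ₗ[ZMod p] Additive M) :
    Module.End (ZMod p) (Additive M)) with hX
  have hsq : (X - 1) ^ 2 = 0 := by
    refine LinearMap.ext fun a => ?_
    rw [pow_two, Module.End.mul_apply, LinearMap.zero_apply]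
    have h1 : (X - 1) a = Additive.ofMul (ψ x (Additive.toMul a) / Additive.toMul a) := rfl
    rw [h1]
    show Additive.ofMul (ψ x (ψ x (Additive.toMul a) / Additive.toMul a) /
      (ψ x (Additive.toMul a) / Additive.toMul a)) = 0
    rw [hquad, div_self']; rfl
  have hdvd : minpoly (ZMod p) X ∣ (Polynomial.X - 1) ^ 2 :=
    minpoly.dvd _ _ (by rw [map_pow, map_sub, Polynomial.aeval_X, map_one, hsq])
  have hprime : Prime (Polynomial.X - 1 : Polynomial (ZMod p)) := by
    rw [← map_one Polynomial.C]; exact Polynomial.prime_X_sub_C 1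
  obtain ⟨r, hr2, hr⟩ := (dvd_prime_pow hprime 2).1 hdvd
  have hr' : minpoly (ZMod p) X = (Polynomial.X - 1) ^ r := by
    refine Polynomial.eq_of_monic_of_associated (minpoly.monic (Algebra.IsIntegral.isIntegral X)) ?_ hr
    rw [← map_one Polynomial.C]; exact (Polynomial.monic_X_sub_C 1).pow r
  rcases CfsgLib.Core.HHCritical.LinB.theorem_b Φ.range hsol hOp (Φ x) ⟨x, rfl⟩ 1
    (by rw [pow_one]; exact hord) r hr' with h | ⟨n₀, q, m, h1, h2, -, -, -, -, h3⟩
  · rw [pow_one] at h; omega
  · obtain rfl : n₀ = 1 := by omega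
    simp at h3
    omega

variable {G : Type u} [Group G] [Finite G] [Group.IsSolvable G]

theorem two_mul_fixed_lt_symplectic {K : Type*} [Field K] {V : Type*} [AddCommGroup V] [Module K V]
    [FiniteDimensional K V] (ρ : G →* Module.End K V) (hfaith : Function.Injective ρ)
    (hsc : ∀ z ∈ center G, ∃ c : K, ρ z = c • 1) {p : ℕ} (hp : p.Prime) (hp5 : 5 ≤ p) {x : G}
    (hxp : x ^ p = 1) (hgen : normalClosure ({x} : Set G) = ⊤) (Q : Subgroup G) [Q.Normal]
    (hQ : ¬ Q ≤ center G)
    (hmin : ∀ N : Subgroup G, N.Normal → N ≤ Q → N ≤ center G ∨ N = Q)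
    (hQc : ¬ ∀ a ∈ Q, ∀ b ∈ Q, a * b = b * a) :
    2 * Module.finrank K (LinearMap.ker (ρ x - 1)) < Module.finrank K V := by
  classical
  haveI := Fact.mk hp
  have hxG : x ≠ 1 := fun h => hQ (by
    rw [h, normalClosure_eq_bot_iff.2 (Set.singleton_subset_iff.2 (by simp))] at hgen
    exact le_of_le_of_eq le_top hgen.symm |>.trans bot_le)
  have hcom : ∀ a ∈ Q, ∀ b ∈ Q, ⁅a, b⁆ ∈ center G := by
    have hlt := commutator_self_lt (N := Q) inferInstance fun h => hQ (h ▸ bot_le)
    rcases hmin ⁅Q, Q⁆ inferInstance hlt.le with h | h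
    · exact fun a ha b hb => h (commutator_mem_commutator ha hb)
    · exact absurd h hlt.ne
  have hcen : ∀ a ∈ Q, (∀ b ∈ Q, a * b = b * a) → a ∈ center G := by
    intro a ha hab
    rcases hmin (Q ⊓ centralizer (Q : Set G)) inferInstance inf_le_left with h | h
    · exact h (Subgroup.mem_inf.2 ⟨ha, mem_centralizer_iff.2 fun b hb => (hab b hb).symm⟩)
    · exact absurd (fun a ha b hb => (mem_centralizer_iff.1 ((h.ge ha).2) b hb).symm) hQc
  -- the exponent modulo the centre
  set π := QuotientGroup.mk' (center G) with hπ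
  have hab : ∀ a ∈ Q, ∀ b ∈ Q, π a * π b = π b * π a := fun a ha b hb => by
    rw [← commutatorElement_eq_one_iff_mul_comm, ← map_commutatorElement, hπ,
      QuotientGroup.mk'_apply, QuotientGroup.eq_one_iff]
    exact hcom a ha b hb
  obtain ⟨q, hq, hqd⟩ := Nat.exists_prime_and_dvd (n := Nat.card (Q.map π)) fun h => hQ fun a ha => by
    have h1 : π a ∈ Q.map π := mem_map_of_mem π ha
    rw [Subgroup.eq_bot_of_card_eq _ h, mem_bot] at h1
    exact (QuotientGroup.eq_one_iff a).1 h1
  haveI := Fact.mk hq
  let M : Subgroup G :=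
    { carrier := {a | a ∈ Q ∧ a ^ q ∈ center G}
      one_mem' := ⟨one_mem Q, by rw [one_pow]; exact one_mem _⟩
      mul_mem' := fun {a b} ha hb => ⟨mul_mem ha.1 hb.1, by
        rw [← QuotientGroup.eq_one_iff, QuotientGroup.mk_pow, QuotientGroup.mk_mul,
          (show Commute (a : G ⧸ center G) b from hab a ha.1 b hb.1).mul_pow, ← QuotientGroup.mk_pow,
          ← QuotientGroup.mk_pow, (QuotientGroup.eq_one_iff _).2 ha.2,
          (QuotientGroup.eq_one_iff _).2 hb.2, one_mul]⟩
      inv_mem' := fun {a} ha => ⟨inv_mem ha.1, by rw [inv_pow]; exact inv_mem ha.2⟩ }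
  have hMn : M.Normal := ⟨fun a ha g => ⟨(inferInstance : Q.Normal).conj_mem a ha.1 g, by
    rw [conj_pow]; exact (inferInstance : (center G).Normal).conj_mem _ ha.2 g⟩⟩
  have hexp : ∀ a ∈ Q, a ^ q ∈ center G := by
    rcases hmin M hMn (fun a ha => ha.1) with h | h
    · exfalso
      obtain ⟨⟨c, hc⟩, hoc⟩ := exists_prime_orderOf_dvd_card' (G := Q.map π) q hqd
      obtain ⟨a, ha, rfl⟩ := hc
      rw [← Subgroup.orderOf_coe] at hoc
      change orderOf (π a) = q at hoc
      have h1 : a ∈ M := ⟨ha, (QuotientGroup.eq_one_iff _).1 (by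
        show π (a ^ q) = 1
        rw [map_pow, ← hoc, pow_orderOf_eq_one])⟩
      have h2 : π a = 1 := (QuotientGroup.eq_one_iff a).2 (h h1)
      rw [h2, orderOf_one] at hoc
      exact hq.one_lt.ne hoc
    · exact fun a ha => (h.ge ha).2
  have hqK : (q : K) ≠ 0 := by
    intro h0
    refine hQc fun a ha b hb => ?_
    obtain ⟨c, hc⟩ := hsc _ (hcom a ha b hb)
    have hpow : ⁅a, b⁆ ^ q = 1 := by
      have h1 : ∀ n : ℕ, ⁅a ^ n, b⁆ = ⁅a, b⁆ ^ n := by
        intro n
        induction n with
        | zero => simp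
        | succ n ih =>
          have e : ⁅a ^ (n + 1), b⁆ = a * ⁅a ^ n, b⁆ * a⁻¹ * ⁅a, b⁆ := by
            rw [pow_succ']; simp only [commutatorElement_def]; group
          rw [e, ih, mem_center_iff.1 (pow_mem (hcom a ha b hb) n) a, mul_inv_cancel_right, pow_succ]
      rw [← h1, commutatorElement_eq_one_iff_mul_comm]
      exact (mem_center_iff.1 (hexp a ha) b).symm
    haveI : CharP K q := (CharP.charP_iff_prime_eq_zero hq).2 h0
    haveI : Nontrivial V := by
      by_contra h
      haveI := not_nontrivial_iff_subsingleton.1 h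
      exact hxG (hfaith (LinearMap.ext fun v => Subsingleton.elim _ _))
    have hcq : c ^ q = 1 := by
      obtain ⟨v, hv⟩ := exists_ne (0 : V)
      have h2 := congrArg (fun z => ρ z v) hpow
      simp only [map_pow, hc, map_one, smul_pow, one_pow, LinearMap.smul_apply,
        Module.End.one_apply] at h2
      exact smul_left_injective K hv (h2.trans (one_smul K v).symm)
    have hc1 : c = 1 := by
      have h3 : (c - 1) ^ q = 0 := by rw [sub_pow_char, hcq, one_pow, sub_self]
      exact sub_eq_zero.1 (eq_zero_of_pow_eq_zero h3)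
    exact commutatorElement_eq_one_iff_mul_comm.1 (hfaith (by rw [hc, hc1, one_smul, map_one]))
  have hcenQ : ∀ a : Q, (a : G) ∈ center G → a ∈ center Q := fun a ha =>
    mem_center_iff.2 fun b => Subtype.ext (mem_center_iff.1 ha b)
  have hgp : IsPGroup q (Q ⧸ center Q) := fun a => by
    induction a using QuotientGroup.induction_on with
    | H a =>
      refine ⟨1, ?_⟩
      rw [pow_one, ← QuotientGroup.mk_pow, QuotientGroup.eq_one_iff]
      exact hcenQ _ (by rw [coe_pow]; exact hexp a a.2)
  have hN : (Nat.card (Q ⧸ center Q) : K) ≠ 0 := by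
    obtain ⟨j, hj⟩ := IsPGroup.iff_card.1 hgp
    rw [hj, Nat.cast_pow]
    exact pow_ne_zero _ hqK
  -- the action on the chief factor
  let ψ : G →* MulAut (Q ⧸ center Q) :=
    { toFun := conjBar Q
      map_one' := MulEquiv.ext fun a => by
        induction a using QuotientGroup.induction_on with
        | H a => rw [conjBar_mk, map_one]; rfl
      map_mul' := fun g h => MulEquiv.ext fun a => by
        induction a using QuotientGroup.induction_on with
        | H a => rw [MulAut.mul_apply, conjBar_mk, conjBar_mk, conjBar_mk, map_mul]; rfl }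
  have hψ : ∀ g a, ψ g a = conjBar Q g a := fun g a => rfl
  have hirrM : ∀ S : Subgroup (Q ⧸ center Q), (∀ g, ∀ a ∈ S, ψ g a ∈ S) → S = ⊥ ∨ S = ⊤ := by
    intro S hS
    set N := (S.comap (QuotientGroup.mk' (center Q))).map Q.subtype with hN'
    have hNn : N.Normal := ⟨fun n hn g => by
      obtain ⟨a, ha, rfl⟩ := hn
      exact ⟨MulAut.conjNormal g a, hS g _ ha, MulAut.conjNormal_apply g a⟩⟩
    rcases hmin N hNn (map_subtype_le _) with h | h
    · left
      refine (Subgroup.eq_bot_iff_forall _).2 fun a ha => ?_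
      induction a using QuotientGroup.induction_on with
      | H a => exact (QuotientGroup.eq_one_iff a).2 (hcenQ a (h ⟨a, ha, rfl⟩))
    · right
      refine eq_top_iff.2 fun a _ => ?_
      induction a using QuotientGroup.induction_on with
      | H a =>
        obtain ⟨b, hb, hba⟩ := h.ge a.2
        rw [Subtype.ext hba] at hb
        exact hb
  have hne : ∃ a : Q ⧸ center Q, conjBar Q x a ≠ a := by
    by_contra hall
    push Not at hall
    refine hQc ?_
    -- all of `G` centralises `Q` modulo the centre
    have hk : ∀ g a, ψ g a = a := by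
      intro g a
      have h1 : normalClosure ({x} : Set G) ≤ ψ.ker :=
        normalClosure_le_normal (Set.singleton_subset_iff.2 (MulEquiv.ext hall))
      rw [hgen] at h1
      exact MulEquiv.congr_fun (h1 (mem_top g)) a
    by_contra hQc'
    obtain ⟨a, ha, haz⟩ := SetLike.not_le_iff_exists.1 hQ
    set Y := zpowers a ⊔ (Q ⊓ center G) with hY
    have hYn : Y.Normal := by
      refine ⟨fun y hy g => ?_⟩
      have hle : Y ≤ Y.comap (MulAut.conj g).toMonoidHom := by
        refine sup_le ((zpowers_le).2 ?_) fun z hz => ?_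
        · show g * a * g⁻¹ ∈ Y
          have h1 := hk g ((⟨a, ha⟩ : Q) : Q ⧸ center Q)
          rw [hψ, conjBar_mk, eq_comm, QuotientGroup.eq] at h1
          have h2 : a⁻¹ * (g * a * g⁻¹) ∈ Q ⊓ center G :=
            Subgroup.mem_inf.2 ⟨mul_mem (inv_mem ha) ((inferInstance : Q.Normal).conj_mem a ha g), by
              have h3 : (((⟨a, ha⟩ : Q)⁻¹ * MulAut.conjNormal g ⟨a, ha⟩ : Q) : G) ∈ center G :=
                hcen _ (SetLike.coe_mem _) fun b hb =>
                  (congrArg Subtype.val (mem_center_iff.1 h1 ⟨b, hb⟩)).symm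
              rw [coe_mul, coe_inv, MulAut.conjNormal_apply] at h3
              exact h3⟩
          have := mul_mem (mem_sup_left (T := Q ⊓ center G) (mem_zpowers a))
            (mem_sup_right (S := zpowers a) h2)
          rwa [mul_inv_cancel_left] at this
        · show g * z * g⁻¹ ∈ Y
          rw [mem_center_iff.1 hz.2 g, mul_inv_cancel_right]
          exact mem_sup_right hz
      exact hle hy
    have hYQ : Y ≤ Q := sup_le ((zpowers_le).2 ha) inf_le_left
    rcases hmin Y hYn hYQ with h | h
    · exact haz (h (mem_sup_left (mem_zpowers a)))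
    · refine hQc' fun b hb c hc => ?_
      have hYc : Y ≤ centralizer (Y : Set G) := by
        refine sup_le ((zpowers_le).2 ?_) fun z hz => mem_centralizer_iff.2 fun y _ =>
          mem_center_iff.1 hz.2 y
        refine mem_centralizer_iff.2 fun y hy => ?_
        have hle : Y ≤ centralizer ({a} : Set G) := sup_le ((zpowers_le).2
          (mem_centralizer_singleton_iff.2 rfl)) fun z hz => mem_centralizer_singleton_iff.2
            (mem_center_iff.1 hz.2 a).symm
        exact mem_centralizer_singleton_iff.1 (hle hy)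
      exact (mem_centralizer_iff.1 (hYc (h.ge hb)) c (h.ge hc)).symm
  obtain ⟨R, hR, h4⟩ := exists_few_reps hp hp5 hxp Q hcom hq hexp hne (fun hqp => by
    letI : CommGroup (Q ⧸ center Q) :=
      { (inferInstance : Group (Q ⧸ center Q)) with
        mul_comm := fun a b => by
          induction a using QuotientGroup.induction_on with
          | H a =>
            induction b using QuotientGroup.induction_on with
            | H b =>
              rw [← QuotientGroup.mk_mul, ← QuotientGroup.mk_mul, QuotientGroup.eq]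
              refine hcenQ _ ?_
              have e : (((a * b)⁻¹ * (b * a) : Q) : G) = ⁅(b : G)⁻¹, (a : G)⁻¹⁆ := by
                simp only [coe_mul, coe_inv, commutatorElement_def]; group
              rw [e]
              exact hcom _ (Q.inv_mem b.2) _ (Q.inv_mem a.2) }
    exact exists_not_quad hp5 (fun a => by
      induction a using QuotientGroup.induction_on with
      | H a =>
        rw [← QuotientGroup.mk_pow, QuotientGroup.eq_one_iff]
        exact hcenQ _ (by rw [coe_pow, ← hqp]; exact hexp a a.2)) ψ hirrM hxp hne)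
  exact two_mul_fixed_lt_of_orbit_reps ρ hfaith hsc Q hcen hcom hN hxG R hR h4

/-- The fixed space of a generator of prime order at least five. -/
theorem two_mul_fixed_lt {k : Type*} [Field k] {V : Type*} [AddCommGroup V] [Module k V]
    [FiniteDimensional k V] [Nontrivial V] (ρ : G →* Module.End k V) (hfaith : Function.Injective ρ)
    (hirr : ∀ W : Submodule k V, (∀ g, ∀ w ∈ W, ρ g w ∈ W) → W = ⊥ ∨ W = ⊤)
    {p : ℕ} (hp : p.Prime) (hp5 : 5 ≤ p) {x : G} (hxp : x ^ p = 1) (hx1 : x ≠ 1)
    (hgen : normalClosure ({x} : Set G) = ⊤) :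
    2 * Module.finrank k (LinearMap.ker (ρ x - 1)) < Module.finrank k V := by
  classical
  have hpos : 0 < Module.finrank k V := Module.finrank_pos
  by_cases habel : center G = ⊤
  · rcases hirr (LinearMap.ker (ρ x - 1)) (fun g w hw => by
      rw [LinearMap.mem_ker] at hw ⊢
      have hcomm : ρ x * ρ g = ρ g * ρ x := by
        rw [← map_mul, ← map_mul, mem_center_iff.1 (habel.ge (mem_top x)) g]
      show (ρ x - 1) (ρ g w) = 0
      calc (ρ x - 1) (ρ g w) = ((ρ x - 1) * ρ g) w := rfl
        _ = (ρ g * (ρ x - 1)) w := by rw [sub_mul, mul_sub, hcomm, one_mul, mul_one]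
        _ = 0 := by rw [Module.End.mul_apply, hw, map_zero]) with h | h
    · rw [h, finrank_bot]; omega
    · exfalso
      exact hx1 (hfaith (by rw [map_one]; exact sub_eq_zero.1 (LinearMap.ker_eq_top.1 h)))
  obtain ⟨Q, ⟨hQn, hQ⟩, hmin'⟩ := WellFounded.has_min (wellFounded_lt (α := Subgroup G))
    {N : Subgroup G | N.Normal ∧ ¬ N ≤ center G}
    ⟨⊤, inferInstance, fun h => habel (top_le_iff.1 h)⟩
  haveI : Q.Normal := hQn
  have hmin : ∀ N : Subgroup G, N.Normal → N ≤ Q → N ≤ center G ∨ N = Q := by
    intro N hN hNQ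
    by_contra h
    push Not at h
    exact hmin' N ⟨hN, h.1⟩ (lt_of_le_of_ne hNQ h.2)
  by_cases hQc : ∀ a ∈ Q, ∀ b ∈ Q, a * b = b * a
  · exact two_mul_fixed_lt_of_abelian ρ hfaith hirr hp hp5 hxp hgen Q hQc hQ
  -- scalars: the algebra of the centre is a field
  set B := Algebra.adjoin k (ρ '' (center G : Set G)) with hB
  letI : CommRing B := Algebra.adjoinCommRingOfComm k (by
    rintro _ ⟨a, ha, rfl⟩ _ ⟨b, _, rfl⟩
    rw [← map_mul, ← map_mul, mem_center_iff.1 ha b])
  haveI : IsArtinianRing B := IsArtinianRing.of_finite k B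
  haveI : Nontrivial B := ⟨⟨0, 1, fun h => zero_ne_one (congrArg Subtype.val h)⟩⟩
  have hBcomm : ∀ b ∈ B, ∀ g, b * ρ g = ρ g * b := by
    intro b hb g
    induction hb using Algebra.adjoin_induction with
    | mem y hy =>
      obtain ⟨a, ha, rfl⟩ := hy
      rw [← map_mul, ← map_mul, mem_center_iff.1 ha g]
    | algebraMap r => exact Algebra.commutes r _
    | add y z _ _ hy hz => rw [mul_add, add_mul, hy, hz]
    | mul y z _ _ hy hz => rw [mul_assoc, hz, ← mul_assoc, hy, mul_assoc]
  haveI : IsDomain B := by
    haveI : NoZeroDivisors B := ⟨fun {a b} hab => by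
      by_contra h
      push Not at h
      have hker : LinearMap.ker (a : Module.End k V) = ⊥ := by
        rcases hirr (LinearMap.ker (a : Module.End k V)) (fun g w hw => by
          rw [LinearMap.mem_ker] at hw ⊢
          rw [← Module.End.mul_apply, hBcomm _ a.2 g, Module.End.mul_apply, hw, map_zero]) with h' | h'
        · exact h'
        · exact absurd (Subtype.ext (LinearMap.ker_eq_top.1 h')) h.1
      refine h.2 (Subtype.ext (LinearMap.ext fun v => LinearMap.ker_eq_bot'.1 hker _ ?_))
      show ((a * b : B) : Module.End k V) v = 0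
      rw [hab]; rfl⟩
    exact NoZeroDivisors.to_isDomain B
  letI : Field B := (IsArtinianRing.isField_of_isDomain B).toField
  haveI : IsScalarTower k B V := ⟨fun r b v => rfl⟩
  haveI : Module.Finite B V := Module.Finite.of_restrictScalars_finite k B V
  let lift : G → Module.End B V := fun g =>
    { toFun := fun v => ρ g v
      map_add' := map_add _
      map_smul' := fun b v => by
        show ρ g ((b : Module.End k V) v) = (b : Module.End k V) (ρ g v)
        rw [← Module.End.mul_apply, ← hBcomm _ b.2 g]; rfl }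
  let ρ' : G →* Module.End B V :=
    { toFun := lift
      map_one' := LinearMap.ext fun v => by
        show ρ 1 v = v
        rw [map_one]; rfl
      map_mul' := fun g h => LinearMap.ext fun v => by
        show ρ (g * h) v = ρ g (ρ h v)
        rw [map_mul]; rfl }
  have hρ' : ∀ g v, ρ' g v = ρ g v := fun g v => rfl
  have h := two_mul_fixed_lt_symplectic ρ' (fun g h e => hfaith (LinearMap.ext fun v => by
      rw [← hρ' g, ← hρ' h, e]))
    (fun z hz => ⟨⟨ρ z, Algebra.subset_adjoin ⟨z, hz, rfl⟩⟩, LinearMap.ext fun v => rfl⟩)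
    hp hp5 hxp hgen Q hQ hmin hQc
  have hC : Module.finrank k (LinearMap.ker (ρ x - 1)) =
      Module.finrank k B * Module.finrank B (LinearMap.ker (ρ' x - 1)) := by
    rw [Module.finrank_mul_finrank k B]
    exact LinearEquiv.finrank_eq
      { toFun := fun v => ⟨v.1, v.2⟩
        invFun := fun v => ⟨v.1, v.2⟩
        map_add' := fun _ _ => rfl
        map_smul' := fun r v => Subtype.ext (by simp)
        left_inv := fun _ => rfl
        right_inv := fun _ => rfl }
  rw [hC, ← Module.finrank_mul_finrank k B V, Nat.mul_left_comm]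
  exact Nat.mul_lt_mul_of_pos_left h Module.finrank_pos

end CfsgLib.Core.FixedHalf
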