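import Mathlib
import Cfsg.Agent.Lib.Core.FixedHalf.Main
import Cfsg.Agent.Lib.Core.Coprime
import Cfsg.Agent.Lib.Core.Cores
import Cfsg.Agent.Lib.PGroups.Basic
import Cfsg.Agent.Lib.Components.Subnormal

/-!
# Maximal solvable subgroups generated by two conjugates of a subgroup of prime order

* `centralizes_of_maximal`: a normal `q`-subgroup of a maximal solvable subgroup generated by two
  conjugates of an element of prime order at least five centralises every `r`-subgroup it normalises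
* `isNilpotent_fitting_sup`: hence `F(A) V` is nilpotent
-/

set_option autoImplicit false
set_option linter.all false

namespace CfsgLib.Core.FixedHalf

open Subgroup
open scoped commutatorElement

universe u

variable {G : Type u} [Group G] [Finite G]

theorem normal_of_mem_conj {R : Subgroup G} {M : Subgroup R}
    (h : commutator R ≤ M) : M.Normal := ⟨fun n hn k => by
  have e : k * n * k⁻¹ = ⁅k, n⁆ * n := by rw [commutatorElement_def]; group
  rw [e]
  exact mul_mem (h (commutator_mem_commutator (mem_top k) (mem_top n))) hn⟩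

theorem normalizer_conj_mem {A R : Subgroup G} (h : A ≤ normalizer (R : Set G)) {a u : G}
    (ha : a ∈ A) (hu : u ∈ R) : a * u * a⁻¹ ∈ R :=
  (mem_normalizer_iff.1 (h ha) u).1 hu

theorem normalizer_conj_mem' {A R : Subgroup G} (h : A ≤ normalizer (R : Set G)) {a u : G}
    (ha : a ∈ A) (hu : u ∈ R) : a⁻¹ * u * a ∈ R := by
  have := normalizer_conj_mem h (A.inv_mem ha) hu
  rwa [inv_inv] at this

theorem le_normalizer_of_conj_mem {A R : Subgroup G} (h : ∀ a ∈ A, ∀ u ∈ R, a * u * a⁻¹ ∈ R) :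
    A ≤ normalizer (R : Set G) := fun a ha => by
  rw [mem_normalizer_iff]
  refine fun u => ⟨h a ha u, fun hu => ?_⟩
  have := h a⁻¹ (A.inv_mem ha) _ hu
  rwa [inv_inv, show a⁻¹ * (a * u * a⁻¹) * a = u by group] at this

variable {p : ℕ} {x : G} {A : Subgroup G}

set_option maxHeartbeats 1600000 in
theorem centralizes_of_maximal (hp : p.Prime) (hp5 : 5 ≤ p) (hxp : x ^ p = 1)
    (hAsol : Group.IsSolvable A) {a : G} (ha : a ∈ A)
    (hAgen : A = zpowers x ⊔ (zpowers x).map (MulAut.conj a).toMonoidHom)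
    (hmax : ∀ B : Subgroup G, A ≤ B → Group.IsSolvable B →
      (∃ b ∈ B, B = zpowers x ⊔ (zpowers x).map (MulAut.conj b).toMonoidHom) → B = A)
    {q r : ℕ} [hq : Fact q.Prime] [hr : Fact r.Prime] (hqr : q ≠ r) {Q : Subgroup G} (hQA : Q ≤ A)
    (hQq : IsPGroup q Q) (hQn : A ≤ normalizer (Q : Set G)) :
    ∀ R : Subgroup G, IsPGroup r R → A ≤ normalizer (R : Set G) →
      Q ≤ centralizer (R : Set G) := by
  classical
  intro R
  induction R using WellFoundedLT.induction with
  | ind R ih =>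
  intro hRr hAR
  by_contra hnc
  have hxA : x ∈ A := by rw [hAgen]; exact mem_sup_left (mem_zpowers x)
  have hQR : Q ≤ normalizer (R : Set G) := hQA.trans hAR
  have hcopQR : (Nat.card Q).Coprime (Nat.card R) := by
    obtain ⟨i, hi⟩ := IsPGroup.iff_card.1 hQq
    obtain ⟨j, hj⟩ := IsPGroup.iff_card.1 hRr
    rw [hi, hj]
    exact Nat.Coprime.pow _ _ ((Nat.coprime_primes hq.out hr.out).2 hqr)
  have hQinf : ∀ y ∈ Q, y ∈ R → y = 1 := fun y h1 h2 => by
    rw [← orderOf_eq_one_iff]
    exact Nat.eq_one_of_dvd_coprimes hcopQR (Subgroup.orderOf_dvd_natCard _ h1)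
      (Subgroup.orderOf_dvd_natCard _ h2)
  haveI : Group.IsNilpotent R := hRr.isNilpotent
  -- the commutator is all of `R`
  have hRQ : ⁅R, Q⁆ = R := by
    rcases (commutator_le_of_normalizes hQR).lt_or_eq with hlt | heq
    · exfalso
      have hAn : A ≤ normalizer ((⁅R, Q⁆ : Subgroup G) : Set G) := le_normalizer_of_conj_mem
        fun b hb => by
          have hle : (⁅R, Q⁆).map (MulAut.conj b).toMonoidHom ≤ ⁅R, Q⁆ := by
            rw [map_commutator]
            exact commutator_mono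
              (by rintro _ ⟨u, hu, rfl⟩; exact normalizer_conj_mem hAR hb hu)
              (by rintro _ ⟨u, hu, rfl⟩; exact normalizer_conj_mem hQn hb hu)
          exact fun u hu => hle (mem_map_of_mem _ hu)
      have h1 := ih _ hlt (hRr.to_le hlt.le) hAn
      refine hnc fun y hy => mem_centralizer_iff.2 fun u hu => ?_
      have h2 : ⁅R, Q⁆ = ⊥ := by
        rw [← commutator_commutator_eq hQR hcopQR (Or.inr inferInstance),
          commutator_eq_bot_iff_le_centralizer, le_centralizer_iff]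
        exact h1
      have h3 := commutator_mem_commutator (H₁ := R) (H₂ := Q) hu hy
      rw [h2, mem_bot] at h3
      exact commutatorElement_eq_one_iff_mul_comm.1 h3
    · exact heq
  have hR1 : R ≠ ⊥ := fun h => hnc (by
    intro y _; rw [h]; exact mem_centralizer_iff.2 fun u hu => by
      rw [SetLike.mem_coe, mem_bot] at hu; rw [hu, one_mul, mul_one])
  haveI : Nontrivial R := nontrivial_iff_ne_bot R |>.2 hR1
  -- a maximal invariant subgroup above the Frattini subgroup
  set Φ := (frattini R).map R.subtype with hΦ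
  have hΦA : A ≤ normalizer (Φ : Set G) := le_normalizer_of_conj_mem fun b hb => by
    rintro _ ⟨u, hu, rfl⟩
    let c : MulAut R := R.normalizerMonoidHom ⟨b, hAR hb⟩
    have h1 := (characteristic_iff_map_le.1 (inferInstance : (frattini R).Characteristic) c)
      (mem_map_of_mem _ hu)
    exact ⟨c u, h1, rfl⟩
  have hΦlt : Φ < R := lt_of_le_of_ne (map_subtype_le _) fun h => CfsgLib.PGroups.frattini_ne_top
    (G := R) ((map_injective R.subtype_injective) (by
      rw [← hΦ, h, ← MonoidHom.range_eq_map, range_subtype]))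
  obtain ⟨M, ⟨hΦM, hMR, hMA⟩, hMmax⟩ := WellFounded.has_min (wellFounded_gt (α := Subgroup G))
    {M : Subgroup G | Φ ≤ M ∧ M < R ∧ A ≤ normalizer (M : Set G)} ⟨Φ, le_rfl, hΦlt, hΦA⟩
  have hMmax' : ∀ S : Subgroup G, M ≤ S → S ≤ R → A ≤ normalizer (S : Set G) → S = M ∨ S = R := by
    intro S h1 h2 h3
    by_contra h
    push Not at h
    exact hMmax S ⟨hΦM.trans h1, lt_of_le_of_ne h2 h.2, h3⟩ (lt_of_le_of_ne h1 (Ne.symm h.1))
  have hMc : Q ≤ centralizer (M : Set G) := ih M hMR (hRr.to_le hMR.le) hMA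
  have hMcomm : commutator R ≤ M.subgroupOf R := by
    refine (CfsgLib.PGroups.commutator_le_frattini' hRr).trans fun u hu => ?_
    exact mem_subgroupOf.2 (hΦM ⟨u, hu, rfl⟩)
  have hRM : R ≤ normalizer (M : Set G) := le_normalizer_of_conj_mem fun k hk n hn => by
    have h1 := hMcomm (commutator_mem_commutator (mem_top (⟨k, hk⟩ : R)) (mem_top (⟨n, hMR.le hn⟩ : R)))
    have e : k * n * k⁻¹ = ⁅k, n⁆ * n := by rw [commutatorElement_def]; group
    rw [e]
    exact mul_mem (mem_subgroupOf.1 h1) hn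
  have hARM : A ⊔ R ≤ normalizer (M : Set G) := sup_le hMA hRM
  have hnorm_inter : ∀ T : Subgroup G, A ≤ normalizer (T : Set G) → A ≤ normalizer ((T ⊓ R : Subgroup G) : Set G) :=
    fun T hT => le_normalizer_of_conj_mem fun b hb u hu =>
      Subgroup.mem_inf.2 ⟨normalizer_conj_mem hT hb hu.1, normalizer_conj_mem hAR hb hu.2⟩
  -- `A` meets `R` in `M` only
  have hAinf : A ⊓ R ≤ M := by
    have hT : A ≤ normalizer ((A ⊓ R : Subgroup G) : Set G) := hnorm_inter A le_normalizer
    have hTc : ∀ t ∈ A ⊓ R, ∀ y ∈ Q, ⁅t, y⁆ = 1 := by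
      intro t ht y hy
      refine hQinf _ ?_ ?_
      · exact mul_mem (normalizer_conj_mem hQn ht.1 hy) (inv_mem hy)
      · rw [commutatorElement_def, mul_assoc t, mul_assoc t]
        refine mul_mem ht.2 ?_
        exact normalizer_conj_mem (hQA.trans hAR) hy (inv_mem ht.2)
    rcases hMmax' (M ⊔ (A ⊓ R)) le_sup_left (sup_le hMR.le inf_le_right)
      (le_normalizer_of_conj_mem fun b hb u hu => by
        obtain ⟨m, hm, t, ht, rfl⟩ := (mem_sup_iff_mul' (H := A ⊓ R) (N := M)
          (inf_le_left.trans hMA)).1 (by rwa [sup_comm] at hu)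
        have e : b * (m * t) * b⁻¹ = (b * m * b⁻¹) * (b * t * b⁻¹) := by group
        rw [e]
        exact mul_mem (mem_sup_left (normalizer_conj_mem hMA hb hm))
          (mem_sup_right (normalizer_conj_mem hT hb ht))) with h | h
    · exact le_sup_right.trans h.le
    · exfalso
      refine hnc fun y hy => mem_centralizer_iff.2 fun u hu => ?_
      obtain ⟨m, hm, t, ht, rfl⟩ := (mem_sup_iff_mul' (H := A ⊓ R) (N := M)
        (inf_le_left.trans hMA)).1 (by rw [sup_comm, h]; exact hu)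
      have h1 := mem_centralizer_iff.1 (hMc hy) m hm
      have h2 := commutatorElement_eq_one_iff_mul_comm.1 (hTc t ht y hy)
      rw [mul_assoc, h2, ← mul_assoc, h1, mul_assoc]
  -- the module
  haveI hMn : (M.subgroupOf R).Normal := normal_of_mem_conj hMcomm
  letI : CommGroup (R ⧸ M.subgroupOf R) :=
    { (inferInstance : Group (R ⧸ M.subgroupOf R)) with
      mul_comm := fun s t => by
        induction s using QuotientGroup.induction_on with
        | H s =>
          induction t using QuotientGroup.induction_on with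
          | H t =>
            rw [← QuotientGroup.mk_mul, ← QuotientGroup.mk_mul, QuotientGroup.eq]
            have e : (s * t)⁻¹ * (t * s) = ⁅t⁻¹, s⁻¹⁆ := by rw [commutatorElement_def]; group
            rw [e]
            exact hMcomm (commutator_mem_commutator (mem_top _) (mem_top _)) }
  haveI : Module (ZMod r) (Additive (R ⧸ M.subgroupOf R)) := AddCommGroup.zmodModule fun w =>
    Additive.toMul.injective (by
      obtain ⟨s, hs⟩ := QuotientGroup.mk_surjective (Additive.toMul w)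
      rw [toMul_nsmul, ← hs, ← QuotientGroup.mk_pow, toMul_zero, QuotientGroup.eq_one_iff]
      exact mem_subgroupOf.2 (hΦM ⟨_, CfsgLib.PGroups.pow_mem_frattini hRr s, rfl⟩))
  haveI : Nontrivial (R ⧸ M.subgroupOf R) := by
    obtain ⟨u, hu, huM⟩ := SetLike.exists_of_lt hMR
    exact ⟨⟨((⟨u, hu⟩ : R) : (R ⧸ M.subgroupOf R)), 1, fun h => huM (mem_subgroupOf.1 ((QuotientGroup.eq_one_iff _).1 h))⟩⟩
  let c : A →* MulAut R := R.normalizerMonoidHom.comp (Subgroup.inclusion hAR)
  have hc : ∀ (b : A) (u : R), ((c b u : R) : G) = b * u * (b : G)⁻¹ := fun b u => rfl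
  have hcM : ∀ b : A, (M.subgroupOf R).map (c b).toMonoidHom = M.subgroupOf R := by
    intro b
    ext u
    constructor
    · rintro ⟨v, hv, rfl⟩
      exact mem_subgroupOf.2 (normalizer_conj_mem hMA b.2 (mem_subgroupOf.1 hv))
    · intro hu
      refine ⟨c b⁻¹ u, mem_subgroupOf.2 (normalizer_conj_mem hMA (b⁻¹).2 (mem_subgroupOf.1 hu)), ?_⟩
      show c b (c b⁻¹ u) = u
      rw [← MulAut.mul_apply, ← map_mul, mul_inv_cancel, map_one]; rfl
  let ψ : A → MulAut (R ⧸ M.subgroupOf R) := fun b => QuotientGroup.congr _ _ (c b) (hcM b)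
  have hψ : ∀ (b : A) (u : R), ψ b (u : (R ⧸ M.subgroupOf R)) = ((c b u : R) : (R ⧸ M.subgroupOf R)) := fun b u => rfl
  let Φh : A →* Module.End (ZMod r) (Additive (R ⧸ M.subgroupOf R)) :=
    { toFun := fun b => AddMonoidHom.toZModLinearMap r (MonoidHom.toAdditive (ψ b).toMonoidHom)
      map_one' := LinearMap.ext fun w => by
        obtain ⟨s, hs⟩ := QuotientGroup.mk_surjective (Additive.toMul w)
        show Additive.ofMul (ψ 1 (Additive.toMul w)) = w
        rw [← hs, hψ, map_one, MulAut.one_apply, hs]; rfl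
      map_mul' := fun b b' => LinearMap.ext fun w => by
        obtain ⟨s, hs⟩ := QuotientGroup.mk_surjective (Additive.toMul w)
        show Additive.ofMul (ψ (b * b') (Additive.toMul w)) =
          Additive.ofMul (ψ b (ψ b' (Additive.toMul w)))
        rw [← hs, hψ, hψ, hψ, map_mul]; rfl }
  have hΦh : ∀ (b : A) (u : R), Φh b (Additive.ofMul (u : (R ⧸ M.subgroupOf R))) = Additive.ofMul ((c b u : R) : (R ⧸ M.subgroupOf R)) :=
    fun b u => rfl
  have hfixiff : ∀ (b : A) (u : R), Φh b (Additive.ofMul (u : (R ⧸ M.subgroupOf R))) = Additive.ofMul (u : (R ⧸ M.subgroupOf R)) ↔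
      ⁅(b : G), (u : G)⁆ ∈ M := by
    intro b u
    rw [hΦh, Additive.ofMul.injective.eq_iff]
    constructor
    · intro h
      have h1 := mem_subgroupOf.1 (QuotientGroup.eq.1 h.symm)
      have h2 : (u : G) * ((u : G)⁻¹ * (c b u : R)) * (u : G)⁻¹ ∈ M :=
        normalizer_conj_mem hRM u.2 (by simpa using h1)
      rw [hc] at h2
      have e : ⁅(b : G), (u : G)⁆ =
          (u : G) * ((u : G)⁻¹ * ((b : G) * u * (b : G)⁻¹)) * (u : G)⁻¹ := by
        rw [commutatorElement_def]; group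
      rw [e]; exact h2
    · intro h
      refine (QuotientGroup.eq.2 (mem_subgroupOf.2 ?_)).symm
      have h2 := normalizer_conj_mem' hRM u.2 h
      have e : (((u⁻¹ * c b u : R)) : G) = (u : G)⁻¹ * ⁅(b : G), (u : G)⁆ * u := by
        rw [coe_mul, coe_inv, hc, commutatorElement_def]; group
      rw [e]; exact h2
  -- no fixed points of `Q`
  have hCQ : ∀ u ∈ R, (∀ y ∈ Q, ⁅y, u⁆ ∈ M) → u ∈ M := by
    let S : Subgroup G :=
      { carrier := {u | u ∈ R ∧ ∀ y ∈ Q, ⁅y, u⁆ ∈ M}
        one_mem' := ⟨one_mem R, fun y _ => by rw [commutatorElement_one_right]; exact one_mem M⟩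
        mul_mem' := fun {u v} hu hv => ⟨mul_mem hu.1 hv.1, fun y hy => by
          have e : ⁅y, u * v⁆ = ⁅y, u⁆ * (u * ⁅y, v⁆ * u⁻¹) := by
            simp only [commutatorElement_def]; group
          rw [e]
          exact mul_mem (hu.2 y hy) (normalizer_conj_mem hRM hu.1 (hv.2 y hy))⟩
        inv_mem' := fun {u} hu => ⟨inv_mem hu.1, fun y hy => by
          have e : ⁅y, u⁻¹⁆ = u⁻¹ * ⁅y, u⁆⁻¹ * u := by
            simp only [commutatorElement_def]; group
          rw [e]
          exact normalizer_conj_mem' hRM hu.1 (inv_mem (hu.2 y hy))⟩ }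
    rcases hMmax' S (fun m hm => ⟨hMR.le hm, fun y hy => by
        rw [commutatorElement_eq_one_iff_mul_comm.2 (mem_centralizer_iff.1 (hMc hy) m hm).symm]
        exact one_mem M⟩) (fun u hu => hu.1)
      (le_normalizer_of_conj_mem fun b hb u hu => ⟨normalizer_conj_mem hAR hb hu.1, fun y hy => by
        have h1 := normalizer_conj_mem hMA hb (hu.2 _ (normalizer_conj_mem' hQn hb hy))
        have e : b * ⁅b⁻¹ * y * b, u⁆ * b⁻¹ = ⁅y, b * u * b⁻¹⁆ := by
          simp only [commutatorElement_def]; group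
        rwa [e] at h1⟩) with h | h
    · exact fun u hu huy => h.le ⟨hu, huy⟩
    · exfalso
      refine hMR.not_ge ?_
      rw [← hRQ, commutator_le]
      intro u hu y hy
      rw [← commutatorElement_inv]
      exact inv_mem ((h.ge hu).2 y hy)
  -- irreducibility
  set fA := Φh.toHomUnits.rangeRestrict with hfA
  haveI : Finite Φh.toHomUnits.range := Finite.of_surjective _ Φh.toHomUnits.rangeRestrict_surjective
  have hfsurj : Function.Surjective fA := Φh.toHomUnits.rangeRestrict_surjective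
  haveI : Group.IsSolvable A := hAsol
  haveI : Group.IsSolvable Φh.toHomUnits.range := Group.isSolvable_of_surjective Φh.toHomUnits.rangeRestrict_surjective
  let ρ : Φh.toHomUnits.range →* Module.End (ZMod r) (Additive (R ⧸ M.subgroupOf R)) := (Units.coeHom _).comp Φh.toHomUnits.range.subtype
  have hρ : ∀ b : A, ρ (fA b) = Φh b := fun b => rfl
  have hρinj : Function.Injective ρ := fun g g' h => Subtype.ext (Units.ext h)
  have hirr : ∀ W : Submodule (ZMod r) (Additive (R ⧸ M.subgroupOf R)), (∀ g, ∀ w ∈ W, ρ g w ∈ W) → W = ⊥ ∨ W = ⊤ := by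
    intro W hW
    let S : Subgroup G :=
      { carrier := {u | ∃ hu : u ∈ R, Additive.ofMul ((⟨u, hu⟩ : R) : (R ⧸ M.subgroupOf R)) ∈ W}
        one_mem' := ⟨one_mem R, W.zero_mem⟩
        mul_mem' := fun {u v} hu hv => ⟨mul_mem hu.1 hv.1, W.add_mem hu.2 hv.2⟩
        inv_mem' := fun {u} hu => ⟨inv_mem hu.1, W.neg_mem hu.2⟩ }
    rcases hMmax' S (fun m hm => ⟨hMR.le hm, by
        rw [(QuotientGroup.eq_one_iff _).2 (mem_subgroupOf.2 hm)]; exact W.zero_mem⟩) (fun u hu => hu.1)
      (le_normalizer_of_conj_mem fun b hb u hu => ⟨normalizer_conj_mem hAR hb hu.1,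
        hW (fA ⟨b, hb⟩) _ hu.2⟩) with h | h
    · left
      refine (Submodule.eq_bot_iff _).2 fun w hw => ?_
      obtain ⟨s, hs⟩ := QuotientGroup.mk_surjective (Additive.toMul w)
      have : (s : G) ∈ M := h.le ⟨s.2, by
        rw [show ((⟨(s : G), s.2⟩ : R) : (R ⧸ M.subgroupOf R)) = Additive.toMul w from hs]; exact hw⟩
      rw [← ofMul_toMul w, ← hs, (QuotientGroup.eq_one_iff _).2 (mem_subgroupOf.2 this)]; rfl
    · right
      refine eq_top_iff.2 fun w _ => ?_
      obtain ⟨s, hs⟩ := QuotientGroup.mk_surjective (Additive.toMul w)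
      obtain ⟨_, hs'⟩ := h.ge s.2
      rw [← ofMul_toMul w, ← hs]
      exact hs'
  set xA : A := ⟨x, hxA⟩ with hxAdef
  set aA : A := ⟨a, ha⟩ with haAdef
  set xg := fA xA with hxg
  have hgen : normalClosure ({xg} : Set Φh.toHomUnits.range) = ⊤ := by
    refine eq_top_iff.2 fun g _ => ?_
    obtain ⟨b, rfl⟩ := hfsurj g
    have hle : A ≤ ((normalClosure ({xg} : Set Φh.toHomUnits.range)).comap fA).map A.subtype := by
      conv_lhs => rw [hAgen]
      refine sup_le (zpowers_le.2 ⟨xA, subset_normalClosure rfl, rfl⟩) ?_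
      rw [MonoidHom.map_zpowers, zpowers_le]
      refine ⟨aA * xA * aA⁻¹, ?_, rfl⟩
      rw [SetLike.mem_coe, mem_comap, map_mul, map_mul, map_inv]
      have hn : (normalClosure ({xg} : Set Φh.toHomUnits.range)).Normal := normalClosure_normal
      exact hn.conj_mem (fA xA) (subset_normalClosure (Set.mem_singleton xg)) (fA aA)
    obtain ⟨b', hb', e⟩ := hle b.2
    rw [← Subtype.ext e]
    exact hb'
  have hx1 : xg ≠ 1 := by
    intro h
    refine hMR.not_ge fun u hu => hCQ u hu fun y hy => ?_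
    have h1 : normalClosure ({xg} : Set Φh.toHomUnits.range) = ⊥ := by
      rw [h, normalClosure_eq_bot_iff]
    rw [hgen] at h1
    have h2 : fA ⟨y, hQA hy⟩ = 1 := by
      have := h1.le (mem_top (fA ⟨y, hQA hy⟩))
      exact mem_bot.1 this
    refine (hfixiff ⟨y, hQA hy⟩ ⟨u, hu⟩).1 ?_
    rw [← hρ, h2, map_one]; rfl
  have hlt := two_mul_fixed_lt ρ hρinj hirr hp hp5 (x := xg)
    (by rw [hxg, ← map_pow, show xA ^ p = 1 from Subtype.ext hxp, map_one]) hx1 hgen
  -- choose the twist
  set Cx := LinearMap.ker (ρ xg - 1) with hCx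
  have hsum : Cx ⊔ Cx.map (Φh aA) ≠ ⊤ := by
    intro h
    have h1 := Submodule.finrank_add_le_finrank_add_finrank Cx (Cx.map (Φh aA))
    rw [h, finrank_top] at h1
    have h2 := Submodule.finrank_map_le (Φh aA) Cx
    omega
  obtain ⟨wv, hwv⟩ : ∃ w : Additive (R ⧸ M.subgroupOf R), w ∉ Cx ⊔ Cx.map (Φh aA) := by
    by_contra h
    push Not at h
    exact hsum (eq_top_iff.2 fun w _ => h w)
  obtain ⟨v, hv⟩ := QuotientGroup.mk_surjective (Additive.toMul wv)
  -- fixed points from conjugates inside `A ⊔ M`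
  have hAMdec : ∀ k ∈ A ⊔ M, ∃ b ∈ A, ∃ m ∈ M, k = b * m := fun k hk =>
    (mem_sup_iff_mul hMA).1 hk
  have hfix : ∀ u ∈ R, u * x * u⁻¹ ∈ A ⊔ M → ∀ hu : u ∈ R,
      Additive.ofMul ((⟨u, hu⟩ : R) : (R ⧸ M.subgroupOf R)) ∈ Cx := by
    intro u _ hux hu
    rw [hCx, LinearMap.mem_ker, LinearMap.sub_apply, Module.End.one_apply, sub_eq_zero, hxg, hρ,
      hfixiff]
    show ⁅x, u⁆ ∈ M
    have h1 : ⁅u, x⁆ ∈ A ⊔ M := mul_mem hux (inv_mem (mem_sup_left hxA))
    obtain ⟨b, hb, m, hm, e⟩ := hAMdec _ h1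
    have h2 : ⁅u, x⁆ ∈ R := by
      rw [commutatorElement_def, mul_assoc u, mul_assoc u]
      exact mul_mem hu (normalizer_conj_mem hAR hxA (inv_mem hu))
    have hb' : b ∈ M := hAinf (Subgroup.mem_inf.2 ⟨hb, by
      rw [show b = ⁅u, x⁆ * m⁻¹ by rw [e, mul_inv_cancel_right]]
      exact mul_mem h2 (inv_mem (hMR.le hm))⟩)
    rw [← commutatorElement_inv]
    exact inv_mem (e ▸ mul_mem hb' hm)
  -- the subgroup generated with the twist
  set g := (v : G) * a with hg
  set B := zpowers x ⊔ (zpowers x).map (MulAut.conj g).toMonoidHom with hB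
  have hgAR : g ∈ A ⊔ R := mul_mem (mem_sup_right v.2) (mem_sup_left ha)
  have hBAR : B ≤ A ⊔ R := sup_le (zpowers_le.2 (mem_sup_left hxA)) (by
    rw [MonoidHom.map_zpowers, zpowers_le]
    exact mul_mem (mul_mem hgAR (mem_sup_left hxA)) (inv_mem hgAR))
  have hxB : x ∈ B := mem_sup_left (mem_zpowers x)
  have hgB : g * x * g⁻¹ ∈ B := mem_sup_right ⟨x, mem_zpowers x, rfl⟩
  set B' := B ⊔ M with hB'
  have hB'le : B' ≤ A ⊔ R := sup_le hBAR (hMR.le.trans le_sup_right)
  have hcover : A ≤ B' ⊔ R := by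
    rw [hAgen]
    refine sup_le (zpowers_le.2 (mem_sup_left (mem_sup_left hxB))) ?_
    rw [MonoidHom.map_zpowers, zpowers_le]
    have e : (MulAut.conj a).toMonoidHom x = (v : G)⁻¹ * (g * x * g⁻¹) * v := by
      show a * x * a⁻¹ = _
      rw [hg]; group
    rw [e]
    exact mul_mem (mul_mem (mem_sup_right (inv_mem v.2)) (mem_sup_left (mem_sup_left hgB)))
      (mem_sup_right v.2)
  have hARR : A ⊔ R ≤ normalizer (R : Set G) := sup_le hAR le_normalizer
  have hB'R : B' ≤ normalizer (R : Set G) := hB'le.trans hARR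
  -- `B'` contains `R`
  have hB'inf : R ≤ B' := by
    have hRnorm : R ≤ normalizer ((B' ⊓ R : Subgroup G) : Set G) := le_normalizer_of_conj_mem
      fun k hk n hn => by
        have h1 := hMcomm (commutator_mem_commutator (mem_top (⟨k, hk⟩ : R)) (mem_top (⟨n, hn.2⟩ : R)))
        have e : k * n * k⁻¹ = ⁅k, n⁆ * n := by rw [commutatorElement_def]; group
        rw [e]
        exact Subgroup.mem_inf.2 ⟨mul_mem (mem_sup_right (mem_subgroupOf.1 h1)) hn.1,
          mul_mem (hMR.le (mem_subgroupOf.1 h1)) hn.2⟩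
    have hB'n : B' ≤ normalizer ((B' ⊓ R : Subgroup G) : Set G) := le_normalizer_of_conj_mem
      fun k hk n hn => Subgroup.mem_inf.2
        ⟨mul_mem (mul_mem hk hn.1) (inv_mem hk), normalizer_conj_mem hB'R hk hn.2⟩
    rcases hMmax' (B' ⊓ R) (le_inf le_sup_right hMR.le) inf_le_right
      (hcover.trans (sup_le hB'n hRnorm)) with hM' | hR'
    swap
    · exact hR'.ge.trans inf_le_left
    exfalso
    -- the complement case
    set QR := Q ⊔ R with hQRdef
    have hQRn : A ⊔ R ≤ normalizer (QR : Set G) := by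
      refine sup_le (le_normalizer_of_conj_mem fun b hb k hk => ?_) (le_sup_right.trans le_normalizer)
      obtain ⟨y, hy, t, ht, rfl⟩ := (mem_sup_iff_mul hQR).1 hk
      have e : b * (y * t) * b⁻¹ = (b * y * b⁻¹) * (b * t * b⁻¹) := by group
      rw [e]
      exact mul_mem (mem_sup_left (normalizer_conj_mem hQn hb hy))
        (mem_sup_right (normalizer_conj_mem hAR hb ht))
    set Q1 := B' ⊓ QR with hQ1
    have hQ1inf : Q1 ⊓ R = M := by
      refine le_antisymm (fun k hk => hM'.le ⟨hk.1.1, hk.2⟩) fun m hm => ?_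
      exact ⟨⟨mem_sup_right hm, mem_sup_right (hMR.le hm)⟩, hMR.le hm⟩
    have hQ1sup : Q1 ⊔ R = QR := by
      refine le_antisymm (sup_le inf_le_right le_sup_right) (sup_le (fun y hy => ?_) le_sup_right)
      obtain ⟨b, hb, t, ht, e⟩ := (mem_sup_iff_mul hB'R).1 (hcover (hQA hy))
      have hbQR : b ∈ QR := by
        rw [show b = y * t⁻¹ by rw [e, mul_inv_cancel_right]]
        exact mul_mem (mem_sup_left hy) (mem_sup_right (inv_mem ht))
      rw [e]
      exact mul_mem (mem_sup_left (Subgroup.mem_inf.2 ⟨hb, hbQR⟩)) (mem_sup_right ht)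
    have hQ1R : Q1 ≤ normalizer (R : Set G) := inf_le_left.trans hB'R
    have hQRcard : Nat.card QR = Nat.card Q * Nat.card R := by
      have h1 := CfsgLib.Core.card_sup_mul_card_inf Q R hQR
      rw [show Q ⊓ R = ⊥ from (Subgroup.eq_bot_iff_forall _).2 fun y hy => hQinf y hy.1 hy.2,
        card_bot, mul_one] at h1
      exact h1
    have hQ1card : Nat.card Q1 = Nat.card Q * Nat.card M := by
      have h1 := CfsgLib.Core.card_sup_mul_card_inf Q1 R hQ1R
      rw [hQ1inf, hQ1sup, hQRcard] at h1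
      exact Nat.eq_of_mul_eq_mul_right (m := Nat.card R) Nat.card_pos
        (h1.symm.trans (Nat.mul_right_comm _ _ _))
    obtain ⟨i, hi⟩ := IsPGroup.iff_card.1 hQq
    obtain ⟨T0, hT0⟩ := Sylow.exists_subgroup_card_pow_prime q (n := i) (G := Q1)
      (by rw [hQ1card, hi]; exact Dvd.intro _ rfl)
    set T := T0.map Q1.subtype with hT
    have hTQ1 : T ≤ Q1 := map_subtype_le _
    have hTcard : Nat.card T = Nat.card Q := by
      rw [hi, ← hT0]
      exact (Nat.card_congr (T0.equivMapOfInjective _ Q1.subtype_injective).toEquiv).symm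
    have hQsyl : Nat.card (Q.subgroupOf QR) = q ^ (Nat.card QR).factorization q := by
      rw [Nat.card_congr (subgroupOfEquivOfLe (le_sup_left : Q ≤ QR)).toEquiv, hQRcard,
        Nat.factorization_mul Nat.card_pos.ne' Nat.card_pos.ne', Finsupp.add_apply]
      obtain ⟨j, hj⟩ := IsPGroup.iff_card.1 hRr
      rw [hi, hj, Nat.Prime.factorization_pow hq.out, Nat.Prime.factorization_pow hr.out,
        Finsupp.single_eq_same, Finsupp.single_eq_of_ne hqr, add_zero]
    obtain ⟨k, hk, hkT⟩ := CfsgLib.Core.exists_conj_of_card_eq (Sylow.ofCard _ hQsyl)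
      (hTQ1.trans inf_le_right)
      (by rw [hTcard, Sylow.coe_ofCard, map_subgroupOf_eq_of_le le_sup_left])
    rw [Sylow.coe_ofCard, map_subgroupOf_eq_of_le le_sup_left] at hkT
    obtain ⟨w, hw, y, hy, rfl⟩ := (mem_sup_iff_mul' hQR).1 hk
    have hTw : ∀ z ∈ Q, w * z * w⁻¹ ∈ T := by
      intro z hz
      rw [← hkT]
      refine ⟨y⁻¹ * z * y, mul_mem (mul_mem (inv_mem hy) hz) hy, ?_⟩
      show w * y * (y⁻¹ * z * y) * (w * y)⁻¹ = w * z * w⁻¹
      group
    -- `Q1` is the conjugate of `Q ⊔ M`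
    have hQMle : (Q ⊔ M).map (MulAut.conj w).toMonoidHom ≤ Q1 := by
      rw [Subgroup.map_sup]
      refine sup_le ?_ ?_
      · rintro _ ⟨z, hz, rfl⟩; exact hTQ1 (hTw z hz)
      · rintro _ ⟨m, hm, rfl⟩
        have h1 := normalizer_conj_mem hRM hw hm
        exact Subgroup.mem_inf.2 ⟨mem_sup_right h1, mem_sup_right (hMR.le h1)⟩
    have hQMc : Q ≤ normalizer (M : Set G) := hQA.trans hMA
    have hQ1eq : (Q ⊔ M).map (MulAut.conj w).toMonoidHom = Q1 := by
      refine eq_of_le_of_card_ge hQMle (le_of_eq ?_)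
      rw [card_map_of_injective (MulAut.conj w).injective, hQ1card]
      have h1 := CfsgLib.Core.card_sup_mul_card_inf Q M hQMc
      rw [show Q ⊓ M = ⊥ from (Subgroup.eq_bot_iff_forall _).2 fun y hy => hQinf y hy.1 (hMR.le hy.2),
        card_bot, mul_one] at h1
      exact h1.symm
    have hback : ∀ b ∈ B', w⁻¹ * b * w ∈ A ⊔ M := by
      intro b hb
      have hwAR : w ∈ A ⊔ R := mem_sup_right hw
      have hkAR : w⁻¹ * b * w ∈ A ⊔ R := mul_mem (mul_mem (inv_mem hwAR) (hB'le hb)) hwAR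
      have hknorm : ∀ z ∈ Q ⊔ M, (w⁻¹ * b * w) * z * (w⁻¹ * b * w)⁻¹ ∈ Q ⊔ M := by
        intro z hz
        have h1 : w * z * w⁻¹ ∈ Q1 := hQ1eq ▸ mem_map_of_mem _ hz
        have h2 : b * (w * z * w⁻¹) * b⁻¹ ∈ Q1 := Subgroup.mem_inf.2
          ⟨mul_mem (mul_mem hb h1.1) (inv_mem hb), normalizer_conj_mem hQRn (hB'le hb) h1.2⟩
        rw [← hQ1eq] at h2
        obtain ⟨z', hz', e⟩ := h2
        have e' : (w⁻¹ * b * w) * z * (w⁻¹ * b * w)⁻¹ = z' := by
          have e2 : w * z' * w⁻¹ = b * (w * z * w⁻¹) * b⁻¹ := e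
          rw [show z' = w⁻¹ * (w * z' * w⁻¹) * w by group, e2]
          group
        rw [e']
        exact hz'
      obtain ⟨a', ha', t, ht, e⟩ := (mem_sup_iff_mul hAR).1 hkAR
      rw [e] at hknorm ⊢
      refine mul_mem (mem_sup_left ha') (mem_sup_right (hCQ t ht fun z hz => ?_))
      have h1 := hknorm z (mem_sup_left hz)
      have hQMn : A ≤ normalizer ((Q ⊔ M : Subgroup G) : Set G) := le_normalizer_of_conj_mem fun b hb k hk => by
        obtain ⟨y, hy, m, hm, rfl⟩ := (mem_sup_iff_mul hQMc).1 hk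
        have e : b * (y * m) * b⁻¹ = (b * y * b⁻¹) * (b * m * b⁻¹) := by group
        rw [e]
        exact mul_mem (mem_sup_left (normalizer_conj_mem hQn hb hy))
          (mem_sup_right (normalizer_conj_mem hMA hb hm))
      have h2 := normalizer_conj_mem' hQMn ha' h1
      rw [show a'⁻¹ * (a' * t * z * (a' * t)⁻¹) * a' = t * z * t⁻¹ by group] at h2
      obtain ⟨y', hy', m, hm, e2⟩ := (mem_sup_iff_mul hQMc).1 h2
      have hzt : ⁅z, t⁆ = z * t * z⁻¹ * t⁻¹ := commutatorElement_def z t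
      have h3 : t * z * t⁻¹ * z⁻¹ ∈ R := by
        rw [mul_assoc t, mul_assoc t]
        exact mul_mem ht (normalizer_conj_mem hQR hz (inv_mem ht))
      have h4 : t * z * t⁻¹ * z⁻¹ = (y' * z⁻¹) * (z * m * z⁻¹) := by rw [e2]; group
      have hzm : z * m * z⁻¹ ∈ M := normalizer_conj_mem hQMc hz hm
      have h5 : y' * z⁻¹ = 1 := hQinf _ (mul_mem hy' (inv_mem hz)) (by
        rw [show y' * z⁻¹ = (t * z * t⁻¹ * z⁻¹) * (z * m * z⁻¹)⁻¹ by rw [h4, mul_inv_cancel_right]]
        exact mul_mem h3 (inv_mem (hMR.le hzm)))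
      rw [← commutatorElement_inv, commutatorElement_def]
      refine inv_mem ?_
      rw [h4, h5, one_mul]
      exact hzm
    -- the two fixed points
    have hw1 : w⁻¹ * x * w⁻¹⁻¹ ∈ A ⊔ M := by rw [inv_inv]; exact hback x (mem_sup_left hxB)
    have hu2 : a⁻¹ * (w⁻¹ * v) * a ∈ R := normalizer_conj_mem' hAR ha (mul_mem (inv_mem hw) v.2)
    have hw2 : (a⁻¹ * (w⁻¹ * v) * a) * x * (a⁻¹ * (w⁻¹ * v) * a)⁻¹ ∈ A ⊔ M := by
      have h1 := hback _ (mem_sup_left hgB)
      have e : (a⁻¹ * (w⁻¹ * v) * a) * x * (a⁻¹ * (w⁻¹ * v) * a)⁻¹ =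
          a⁻¹ * (w⁻¹ * (g * x * g⁻¹) * w) * a := by rw [hg]; group
      rw [e]
      exact mul_mem (mul_mem (mem_sup_left (inv_mem ha)) h1) (mem_sup_left ha)
    have f1 := hfix _ (inv_mem hw) hw1 (inv_mem hw)
    have f2 := hfix _ hu2 hw2 hu2
    refine hwv ?_
    have hveq : (v : (R ⧸ M.subgroupOf R)) = ((⟨w⁻¹, inv_mem hw⟩ : R) : (R ⧸ M.subgroupOf R))⁻¹ *
        ((c aA ⟨a⁻¹ * (w⁻¹ * v) * a, hu2⟩ : R) : (R ⧸ M.subgroupOf R)) := by
      rw [← QuotientGroup.mk_inv, ← QuotientGroup.mk_mul]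
      congr 1
      refine Subtype.ext ?_
      rw [coe_mul, coe_inv, hc]
      show (v : G) = (w⁻¹)⁻¹ * (a * (a⁻¹ * (w⁻¹ * v) * a) * a⁻¹)
      group
    rw [← ofMul_toMul wv, ← hv, hveq, ofMul_mul, ofMul_inv, ← hΦh]
    exact Submodule.add_mem _ (Submodule.neg_mem _ (Submodule.mem_sup_left f1))
      (Submodule.mem_sup_right (Submodule.mem_map_of_mem f2))
  -- `B` is all of `A ⊔ R`
  have hB'top : A ⊔ R ≤ B' := sup_le (hcover.trans (sup_le le_rfl hB'inf)) hB'inf
  have hBM : B ≤ normalizer (M : Set G) := hBAR.trans hARM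
  have hQB : Q ≤ B := by
    intro y hy
    obtain ⟨b, hb, m, hm, e⟩ := (mem_sup_iff_mul hBM).1 (hB'top (mem_sup_left (hQA hy)))
    have hcom : Commute y m⁻¹ := (show Commute y m from
      (mem_centralizer_iff.1 (hMc hy) m hm).symm).inv_right
    have hym : y * m⁻¹ ∈ B := by rw [e, mul_inv_cancel_right]; exact hb
    have h1 : y ^ Nat.card M ∈ B := by
      have h2 := pow_mem hym (Nat.card M)
      rwa [hcom.mul_pow, inv_pow, show m ^ Nat.card M = 1 from
        congrArg Subtype.val (pow_card_eq_one' (x := (⟨m, hm⟩ : M))), inv_one, mul_one] at h2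
    have hco : (Nat.card M).Coprime (orderOf y) :=
      ((hcopQR.coprime_dvd_right (card_dvd_of_le hMR.le)).coprime_dvd_left
        (Subgroup.orderOf_dvd_natCard _ hy)).symm
    obtain ⟨j, hj⟩ := exists_pow_eq_self_of_coprime hco
    rw [← hj]
    exact pow_mem h1 j
  have hRB : R ≤ B := by
    rw [← hRQ, commutator_le]
    intro u hu y hy
    obtain ⟨b, hb, m, hm, rfl⟩ := (mem_sup_iff_mul hBM).1 (hB'inf hu)
    have e : ⁅b * m, y⁆ = b * ⁅m, y⁆ * b⁻¹ * ⁅b, y⁆ := by simp only [commutatorElement_def]; group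
    rw [e, commutatorElement_eq_one_iff_mul_comm.2 (mem_centralizer_iff.1 (hMc hy) m hm), mul_one,
      mul_inv_cancel, one_mul, commutatorElement_def]
    exact mul_mem (mul_mem (mul_mem hb (hQB hy)) (inv_mem hb)) (inv_mem (hQB hy))
  have hBeq : B = A ⊔ R := le_antisymm hBAR (hB'top.trans (sup_le le_rfl (hMR.le.trans hRB)))
  have hsolB : Group.IsSolvable (A ⊔ R : Subgroup G) := by
    rw [sup_comm]
    exact CfsgLib.Components.isSolvable_sup hAR inferInstance hAsol
  have hfinal := hmax (A ⊔ R) le_sup_left hsolB ⟨g, hgAR, hBeq.symm⟩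
  exact hMR.not_ge fun u hu => hAinf (Subgroup.mem_inf.2 ⟨hfinal.le (mem_sup_right hu), hu⟩)

theorem isNilpotent_fitting_sup (hp : p.Prime) (hp5 : 5 ≤ p) (hxp : x ^ p = 1)
    (hAsol : Group.IsSolvable A) {a : G} (ha : a ∈ A)
    (hAgen : A = zpowers x ⊔ (zpowers x).map (MulAut.conj a).toMonoidHom)
    (hmax : ∀ B : Subgroup G, A ≤ B → Group.IsSolvable B →
      (∃ b ∈ B, B = zpowers x ⊔ (zpowers x).map (MulAut.conj b).toMonoidHom) → B = A)
    (V : Subgroup G) (hV : Group.IsNilpotent V) (hAV : A ≤ normalizer (V : Set G)) :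
    Group.IsNilpotent ((Cfsg.fittingSubgroup A).map A.subtype ⊔ V : Subgroup G) := by
  classical
  let QA : ℕ → Subgroup G := fun s => (Cfsg.pCore s A).map A.subtype
  let RV : ℕ → Subgroup G := fun s => (Cfsg.pCore s V).map V.subtype
  have hQp : ∀ s, IsPGroup s (QA s) := fun s => (CfsgLib.Core.isPGroup_pCore s A).map _
  have hRp : ∀ s, IsPGroup s (RV s) := fun s => (CfsgLib.Core.isPGroup_pCore s V).map _
  have hQn : ∀ s, A ≤ normalizer (QA s : Set G) := fun s => le_normalizer_of_conj_mem fun b hb => by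
    rintro _ ⟨u, hu, rfl⟩
    exact ⟨⟨b, hb⟩ * u * ⟨b, hb⟩⁻¹, (inferInstance : (Cfsg.pCore s A).Normal).conj_mem u hu _, rfl⟩
  have hRn : ∀ s, A ≤ normalizer (RV s : Set G) := fun s => le_normalizer_of_conj_mem fun b hb => by
    rintro _ ⟨u, hu, rfl⟩
    let c : MulAut V := V.normalizerMonoidHom ⟨b, hAV hb⟩
    exact ⟨c u, (CfsgLib.Core.map_equiv_pCore (p := s) c).le (mem_map_of_mem _ hu), rfl⟩
  have hQR : ∀ q r, q.Prime → r.Prime → q ≠ r → ∀ y ∈ QA q, ∀ u ∈ RV r, y * u = u * y := by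
    intro q r hq hr hne y hy u hu
    haveI := Fact.mk hq
    haveI := Fact.mk hr
    exact (mem_centralizer_iff.1 (centralizes_of_maximal hp hp5 hxp hAsol ha hAgen hmax hne
      (map_subtype_le _) (hQp q) (hQn q) (RV r) (hRp r) (hRn r) hy) u hu).symm
  let S : ℕ → Subgroup G := fun s => QA s ⊔ RV s
  have hSp : ∀ s, IsPGroup s (S s) := fun s =>
    (hQp s).to_sup_of_normal_right' (hRp s) ((map_subtype_le _).trans (hRn s))
  have hScomm : ∀ q r, q.Prime → r.Prime → q ≠ r → S q ≤ centralizer (S r : Set G) := by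
    intro q r hq hr hne
    refine le_centralizer_iff.1 (sup_le (le_centralizer_iff.1 (sup_le ?_ ?_))
      (le_centralizer_iff.1 (sup_le ?_ ?_)))
    · intro y hy
      refine mem_centralizer_iff.2 fun u hu => ?_
      obtain ⟨y', hy', rfl⟩ := hy
      obtain ⟨u', hu', rfl⟩ := hu
      exact congrArg Subtype.val (CfsgLib.Core.commute_pCore_pCore hq hr hne y' hy' u' hu').symm
    · exact fun y hy => mem_centralizer_iff.2 fun u hu => hQR r q hr hq hne.symm u hu y hy
    · exact fun y hy => mem_centralizer_iff.2 fun u hu => (hQR q r hq hr hne y hy u hu).symm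
    · intro y hy
      refine mem_centralizer_iff.2 fun u hu => ?_
      obtain ⟨y', hy', rfl⟩ := hy
      obtain ⟨u', hu', rfl⟩ := hu
      exact congrArg Subtype.val (CfsgLib.Core.commute_pCore_pCore hq hr hne y' hy' u' hu').symm
  have key : ∀ t : Finset ℕ, (∀ s ∈ t, s.Prime) → Group.IsNilpotent (t.sup S : Subgroup G) := by
    intro t
    induction t using Finset.induction with
    | empty => intro _; rw [Finset.sup_empty]; infer_instance
    | @insert q t hq ih =>
      intro ht
      rw [Finset.sup_insert]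
      have hqp := ht q (Finset.mem_insert_self q t)
      haveI := Fact.mk hqp
      haveI := (hSp q).isNilpotent
      haveI := ih fun s hs => ht s (Finset.mem_insert_of_mem hs)
      have hle : t.sup S ≤ centralizer (S q : Set G) := Finset.sup_le fun r hr =>
        hScomm r q (ht r (Finset.mem_insert_of_mem hr)) hqp fun h => hq (h ▸ hr)
      exact CfsgLib.Core.isNilpotent_sup_of_commute _ _ fun y hy u hu =>
        mem_centralizer_iff.1 (hle hu) y hy
  haveI := key (Nat.card G).primeFactors fun s hs => Nat.prime_of_mem_primeFactors hs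
  have hmem : ∀ {H : Subgroup G} {s : ℕ}, s ∈ (Nat.card H).primeFactors → s ∈ (Nat.card G).primeFactors :=
    fun {H s} hs => Nat.primeFactors_mono (card_subgroup_dvd_card H) Nat.card_pos.ne' hs
  refine CfsgLib.Core.isNilpotent_of_le (K := (Nat.card G).primeFactors.sup S) (sup_le ?_ ?_)
  · rw [CfsgLib.Core.fittingSubgroup_eq_finset_sup, map_le_iff_le_comap]
    exact Finset.sup_le fun s hs y hy =>
      Finset.le_sup (f := S) (hmem hs) (mem_sup_left (mem_map_of_mem _ hy))
  · intro v hv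
    haveI := hV
    have h1 : (⟨v, hv⟩ : V) ∈ Cfsg.fittingSubgroup V := CfsgLib.Core.fittingSubgroup_eq_top.ge (mem_top _)
    rw [CfsgLib.Core.fittingSubgroup_eq_finset_sup] at h1
    have h2 : (Nat.card V).primeFactors.sup (fun s => Cfsg.pCore s V) ≤
        ((Nat.card G).primeFactors.sup S).comap V.subtype :=
      Finset.sup_le fun s hs y hy =>
        Finset.le_sup (f := S) (hmem hs) (mem_sup_right (mem_map_of_mem _ hy))
    exact h2 h1

end CfsgLib.Core.FixedHalf
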